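import Mathlib
import Cfsg.Agent.Lib.Helper2.ChevNfin
import Cfsg.Agent.Lib.Helper2.ChevCjS
import Cfsg.Agent.Lib.Helper2.ChevCj6a
import Cfsg.Agent.Lib.Helper2.ChevCj6b
import Cfsg.Agent.Lib.Helper2.ChevCj6c
import Cfsg.Agent.Lib.Helper2.ChevCj7a
import Cfsg.Agent.Lib.Helper2.ChevCj7b
import Cfsg.Agent.Lib.Helper2.ChevCj7c
import Cfsg.Agent.Lib.Helper2.ChevCj7d
import Cfsg.Agent.Lib.Helper2.ChevCj7e
import Cfsg.Agent.Lib.Helper2.ChevCj7f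
import Cfsg.Agent.Lib.Helper2.ChevCj7g
import Cfsg.Agent.Lib.Helper2.ChevCj7h
import Cfsg.Agent.Lib.Helper2.ChevCj7i
import Cfsg.Agent.Lib.Helper2.ChevCj8x00
import Cfsg.Agent.Lib.Helper2.ChevCj8x01
import Cfsg.Agent.Lib.Helper2.ChevCj8x02
import Cfsg.Agent.Lib.Helper2.ChevCj8x03
import Cfsg.Agent.Lib.Helper2.ChevCj8x04
import Cfsg.Agent.Lib.Helper2.ChevCj8x05
import Cfsg.Agent.Lib.Helper2.ChevCj8x06
import Cfsg.Agent.Lib.Helper2.ChevCj8x07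
import Cfsg.Agent.Lib.Helper2.ChevCj8x08
import Cfsg.Agent.Lib.Helper2.ChevCj8x09
import Cfsg.Agent.Lib.Helper2.ChevCj8x10
import Cfsg.Agent.Lib.Helper2.ChevCj8x11
import Cfsg.Agent.Lib.Helper2.ChevCj8x12
import Cfsg.Agent.Lib.Helper2.ChevCj8x13
import Cfsg.Agent.Lib.Helper2.ChevCj8x14
import Cfsg.Agent.Lib.Helper2.ChevCj8x15
import Cfsg.Agent.Lib.Helper2.ChevCj8x16
import Cfsg.Agent.Lib.Helper2.ChevCj8x17
import Cfsg.Agent.Lib.Helper2.ChevCj8x18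
import Cfsg.Agent.Lib.Helper2.ChevCj8x19
import Cfsg.Agent.Lib.Helper2.ChevCj8x20
import Cfsg.Agent.Lib.Helper2.ChevCj8x21
import Cfsg.Agent.Lib.Helper2.ChevCj8x22
import Cfsg.Agent.Lib.Helper2.ChevCj8x23
import Cfsg.Agent.Lib.Helper2.ChevCj8x24
import Cfsg.Agent.Lib.Helper2.ChevCj8x25
import Cfsg.Agent.Lib.Helper2.ChevCj8x26
import Cfsg.Agent.Lib.Helper2.ChevCj8x27
import Cfsg.Agent.Lib.Helper2.ChevCj8x28
import Cfsg.Agent.Lib.Helper2.ChevCj8x29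

set_option autoImplicit false

namespace Cfsg.Agent.Lib.Helper2.ChevFast

open Cfsg.Lie
open Cfsg.Agent.Lib.Helper2.ChevAdd
open Cfsg.Agent.Lib.Helper2.ChevSym

theorem cj_G2_0 : conjR chevG2 0 0 chevG2.nroots = true := cj_G2_0_0

theorem cj_G2_1 : conjR chevG2 1 0 chevG2.nroots = true := cj_G2_1_0

theorem cj_G2 (i : ℕ) (hi : i < chevG2.rank) : conjR chevG2 i 0 chevG2.nroots = true := by
  have hr : chevG2.rank = 2 := rfl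
  rw [hr] at hi
  interval_cases i
  · exact cj_G2_0
  · exact cj_G2_1

theorem cj_B2_0 : conjR chevB2 0 0 chevB2.nroots = true := cj_B2_0_0

theorem cj_B2_1 : conjR chevB2 1 0 chevB2.nroots = true := cj_B2_1_0

theorem cj_B2 (i : ℕ) (hi : i < chevB2.rank) : conjR chevB2 i 0 chevB2.nroots = true := by
  have hr : chevB2.rank = 2 := rfl
  rw [hr] at hi
  interval_cases i
  · exact cj_B2_0
  · exact cj_B2_1

theorem cj_D4_0 : conjR chevD4 0 0 chevD4.nroots = true := cj_D4_0_0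

theorem cj_D4_1 : conjR chevD4 1 0 chevD4.nroots = true := cj_D4_1_0

theorem cj_D4_2 : conjR chevD4 2 0 chevD4.nroots = true := cj_D4_2_0

theorem cj_D4_3 : conjR chevD4 3 0 chevD4.nroots = true := cj_D4_3_0

theorem cj_D4 (i : ℕ) (hi : i < chevD4.rank) : conjR chevD4 i 0 chevD4.nroots = true := by
  have hr : chevD4.rank = 4 := rfl
  rw [hr] at hi
  interval_cases i
  · exact cj_D4_0
  · exact cj_D4_1
  · exact cj_D4_2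
  · exact cj_D4_3

theorem cj_F4_0 : conjR chevF4 0 0 chevF4.nroots = true := cj_F4_0_0

theorem cj_F4_1 : conjR chevF4 1 0 chevF4.nroots = true := cj_F4_1_0

theorem cj_F4_2 : conjR chevF4 2 0 chevF4.nroots = true := cj_F4_2_0

theorem cj_F4_3 : conjR chevF4 3 0 chevF4.nroots = true := cj_F4_3_0

theorem cj_F4 (i : ℕ) (hi : i < chevF4.rank) : conjR chevF4 i 0 chevF4.nroots = true := by
  have hr : chevF4.rank = 4 := rfl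
  rw [hr] at hi
  interval_cases i
  · exact cj_F4_0
  · exact cj_F4_1
  · exact cj_F4_2
  · exact cj_F4_3

theorem cj_E6_0 : conjR chevE6 0 0 chevE6.nroots = true := (conjR_app chevE6 0 0 48 24 (conjR_app chevE6 0 0 24 24 cj_E6_0_0 cj_E6_0_1) cj_E6_0_2)

theorem cj_E6_1 : conjR chevE6 1 0 chevE6.nroots = true := (conjR_app chevE6 1 0 48 24 (conjR_app chevE6 1 0 24 24 cj_E6_1_0 cj_E6_1_1) cj_E6_1_2)

theorem cj_E6_2 : conjR chevE6 2 0 chevE6.nroots = true := (conjR_app chevE6 2 0 48 24 (conjR_app chevE6 2 0 24 24 cj_E6_2_0 cj_E6_2_1) cj_E6_2_2)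

theorem cj_E6_3 : conjR chevE6 3 0 chevE6.nroots = true := (conjR_app chevE6 3 0 48 24 (conjR_app chevE6 3 0 24 24 cj_E6_3_0 cj_E6_3_1) cj_E6_3_2)

theorem cj_E6_4 : conjR chevE6 4 0 chevE6.nroots = true := (conjR_app chevE6 4 0 48 24 (conjR_app chevE6 4 0 24 24 cj_E6_4_0 cj_E6_4_1) cj_E6_4_2)

theorem cj_E6_5 : conjR chevE6 5 0 chevE6.nroots = true := (conjR_app chevE6 5 0 48 24 (conjR_app chevE6 5 0 24 24 cj_E6_5_0 cj_E6_5_1) cj_E6_5_2)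

theorem cj_E6 (i : ℕ) (hi : i < chevE6.rank) : conjR chevE6 i 0 chevE6.nroots = true := by
  have hr : chevE6.rank = 6 := rfl
  rw [hr] at hi
  interval_cases i
  · exact cj_E6_0
  · exact cj_E6_1
  · exact cj_E6_2
  · exact cj_E6_3
  · exact cj_E6_4
  · exact cj_E6_5

theorem cj_E7_0 : conjR chevE7 0 0 chevE7.nroots = true := (conjR_app chevE7 0 0 112 14 (conjR_app chevE7 0 0 98 14 (conjR_app chevE7 0 0 84 14 (conjR_app chevE7 0 0 70 14 (conjR_app chevE7 0 0 56 14 (conjR_app chevE7 0 0 42 14 (conjR_app chevE7 0 0 28 14 (conjR_app chevE7 0 0 14 14 cj_E7_0_0 cj_E7_0_1) cj_E7_0_2) cj_E7_0_3) cj_E7_0_4) cj_E7_0_5) cj_E7_0_6) cj_E7_0_7) cj_E7_0_8)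

theorem cj_E7_1 : conjR chevE7 1 0 chevE7.nroots = true := (conjR_app chevE7 1 0 112 14 (conjR_app chevE7 1 0 98 14 (conjR_app chevE7 1 0 84 14 (conjR_app chevE7 1 0 70 14 (conjR_app chevE7 1 0 56 14 (conjR_app chevE7 1 0 42 14 (conjR_app chevE7 1 0 28 14 (conjR_app chevE7 1 0 14 14 cj_E7_1_0 cj_E7_1_1) cj_E7_1_2) cj_E7_1_3) cj_E7_1_4) cj_E7_1_5) cj_E7_1_6) cj_E7_1_7) cj_E7_1_8)

theorem cj_E7_2 : conjR chevE7 2 0 chevE7.nroots = true := (conjR_app chevE7 2 0 112 14 (conjR_app chevE7 2 0 98 14 (conjR_app chevE7 2 0 84 14 (conjR_app chevE7 2 0 70 14 (conjR_app chevE7 2 0 56 14 (conjR_app chevE7 2 0 42 14 (conjR_app chevE7 2 0 28 14 (conjR_app chevE7 2 0 14 14 cj_E7_2_0 cj_E7_2_1) cj_E7_2_2) cj_E7_2_3) cj_E7_2_4) cj_E7_2_5) cj_E7_2_6) cj_E7_2_7) cj_E7_2_8)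

theorem cj_E7_3 : conjR chevE7 3 0 chevE7.nroots = true := (conjR_app chevE7 3 0 112 14 (conjR_app chevE7 3 0 98 14 (conjR_app chevE7 3 0 84 14 (conjR_app chevE7 3 0 70 14 (conjR_app chevE7 3 0 56 14 (conjR_app chevE7 3 0 42 14 (conjR_app chevE7 3 0 28 14 (conjR_app chevE7 3 0 14 14 cj_E7_3_0 cj_E7_3_1) cj_E7_3_2) cj_E7_3_3) cj_E7_3_4) cj_E7_3_5) cj_E7_3_6) cj_E7_3_7) cj_E7_3_8)

theorem cj_E7_4 : conjR chevE7 4 0 chevE7.nroots = true := (conjR_app chevE7 4 0 112 14 (conjR_app chevE7 4 0 98 14 (conjR_app chevE7 4 0 84 14 (conjR_app chevE7 4 0 70 14 (conjR_app chevE7 4 0 56 14 (conjR_app chevE7 4 0 42 14 (conjR_app chevE7 4 0 28 14 (conjR_app chevE7 4 0 14 14 cj_E7_4_0 cj_E7_4_1) cj_E7_4_2) cj_E7_4_3) cj_E7_4_4) cj_E7_4_5) cj_E7_4_6) cj_E7_4_7) cj_E7_4_8)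

theorem cj_E7_5 : conjR chevE7 5 0 chevE7.nroots = true := (conjR_app chevE7 5 0 112 14 (conjR_app chevE7 5 0 98 14 (conjR_app chevE7 5 0 84 14 (conjR_app chevE7 5 0 70 14 (conjR_app chevE7 5 0 56 14 (conjR_app chevE7 5 0 42 14 (conjR_app chevE7 5 0 28 14 (conjR_app chevE7 5 0 14 14 cj_E7_5_0 cj_E7_5_1) cj_E7_5_2) cj_E7_5_3) cj_E7_5_4) cj_E7_5_5) cj_E7_5_6) cj_E7_5_7) cj_E7_5_8)

theorem cj_E7_6 : conjR chevE7 6 0 chevE7.nroots = true := (conjR_app chevE7 6 0 112 14 (conjR_app chevE7 6 0 98 14 (conjR_app chevE7 6 0 84 14 (conjR_app chevE7 6 0 70 14 (conjR_app chevE7 6 0 56 14 (conjR_app chevE7 6 0 42 14 (conjR_app chevE7 6 0 28 14 (conjR_app chevE7 6 0 14 14 cj_E7_6_0 cj_E7_6_1) cj_E7_6_2) cj_E7_6_3) cj_E7_6_4) cj_E7_6_5) cj_E7_6_6) cj_E7_6_7) cj_E7_6_8)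

theorem cj_E7 (i : ℕ) (hi : i < chevE7.rank) : conjR chevE7 i 0 chevE7.nroots = true := by
  have hr : chevE7.rank = 7 := rfl
  rw [hr] at hi
  interval_cases i
  · exact cj_E7_0
  · exact cj_E7_1
  · exact cj_E7_2
  · exact cj_E7_3
  · exact cj_E7_4
  · exact cj_E7_5
  · exact cj_E7_6

theorem cj_E8_0 : conjR chevE8 0 0 chevE8.nroots = true := (conjR_app chevE8 0 0 232 8 (conjR_app chevE8 0 0 224 8 (conjR_app chevE8 0 0 216 8 (conjR_app chevE8 0 0 208 8 (conjR_app chevE8 0 0 200 8 (conjR_app chevE8 0 0 192 8 (conjR_app chevE8 0 0 184 8 (conjR_app chevE8 0 0 176 8 (conjR_app chevE8 0 0 168 8 (conjR_app chevE8 0 0 160 8 (conjR_app chevE8 0 0 152 8 (conjR_app chevE8 0 0 144 8 (conjR_app chevE8 0 0 136 8 (conjR_app chevE8 0 0 128 8 (conjR_app chevE8 0 0 120 8 (conjR_app chevE8 0 0 112 8 (conjR_app chevE8 0 0 104 8 (conjR_app chevE8 0 0 96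 8 (conjR_app chevE8 0 0 88 8 (conjR_app chevE8 0 0 80 8 (conjR_app chevE8 0 0 72 8 (conjR_app chevE8 0 0 64 8 (conjR_app chevE8 0 0 56 8 (conjR_app chevE8 0 0 48 8 (conjR_app chevE8 0 0 40 8 (conjR_app chevE8 0 0 32 8 (conjR_app chevE8 0 0 24 8 (conjR_app chevE8 0 0 16 8 (conjR_app chevE8 0 0 8 8 cj_E8_0_0 cj_E8_0_1) cj_E8_0_2) cj_E8_0_3) cj_E8_0_4) cj_E8_0_5) cj_E8_0_6) cj_E8_0_7) cj_E8_0_8) cj_E8_0_9) cj_E8_0_10) cj_E8_0_11) cj_E8_0_12) cj_E8_0_13) cj_E8_0_14) cj_E8_0_15) cj_E8_0_16) cj_E8_0_17) cj_E8_0_18) cj_E8_0_19) cj_E8_0_20) cj_E8_0_21) cj_E8_0_22) cj_E8_0_23) cj_E8_0_24) cj_E8_0_25) cj_E8_0_26) cj_E8_0_27) cj_E8_0_28) cj_E8_0_29)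

theorem cj_E8_1 : conjR chevE8 1 0 chevE8.nroots = true := (conjR_app chevE8 1 0 232 8 (conjR_app chevE8 1 0 224 8 (conjR_app chevE8 1 0 216 8 (conjR_app chevE8 1 0 208 8 (conjR_app chevE8 1 0 200 8 (conjR_app chevE8 1 0 192 8 (conjR_app chevE8 1 0 184 8 (conjR_app chevE8 1 0 176 8 (conjR_app chevE8 1 0 168 8 (conjR_app chevE8 1 0 160 8 (conjR_app chevE8 1 0 152 8 (conjR_app chevE8 1 0 144 8 (conjR_app chevE8 1 0 136 8 (conjR_app chevE8 1 0 128 8 (conjR_app chevE8 1 0 120 8 (conjR_app chevE8 1 0 112 8 (conjR_app chevE8 1 0 104 8 (conjR_app chevE8 1 0 96 8 (conjR_app chevE8 1 0 88 8 (conjR_app chevE8 1 0 80 8 (conjR_app chevE8 1 0 72 8 (conjR_app chevE8 1 0 64 8 (conjR_app chevE8 1 0 56 8 (conjR_app chevE8 1 0 48 8 (conjR_app chevE8 1 0 40 8 (conjR_app chevE8 1 0 32 8 (conjR_app chevE8 1 0 24 8 (conjR_app chevE8 1 0 16 8 (conjR_app chevE8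 1 0 8 8 cj_E8_1_0 cj_E8_1_1) cj_E8_1_2) cj_E8_1_3) cj_E8_1_4) cj_E8_1_5) cj_E8_1_6) cj_E8_1_7) cj_E8_1_8) cj_E8_1_9) cj_E8_1_10) cj_E8_1_11) cj_E8_1_12) cj_E8_1_13) cj_E8_1_14) cj_E8_1_15) cj_E8_1_16) cj_E8_1_17) cj_E8_1_18) cj_E8_1_19) cj_E8_1_20) cj_E8_1_21) cj_E8_1_22) cj_E8_1_23) cj_E8_1_24) cj_E8_1_25) cj_E8_1_26) cj_E8_1_27) cj_E8_1_28) cj_E8_1_29)

theorem cj_E8_2 : conjR chevE8 2 0 chevE8.nroots = true := (conjR_app chevE8 2 0 232 8 (conjR_app chevE8 2 0 224 8 (conjR_app chevE8 2 0 216 8 (conjR_app chevE8 2 0 208 8 (conjR_app chevE8 2 0 200 8 (conjR_app chevE8 2 0 192 8 (conjR_app chevE8 2 0 184 8 (conjR_app chevE8 2 0 176 8 (conjR_app chevE8 2 0 168 8 (conjR_app chevE8 2 0 160 8 (conjR_app chevE8 2 0 152 8 (conjR_app chevE8 2 0 144 8 (conjR_app chevE8 2 0 136 8 (conjR_app chevE8 2 0 128 8 (conjR_app chevE8 2 0 120 8 (conjR_app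 chevE8 2 0 112 8 (conjR_app chevE8 2 0 104 8 (conjR_app chevE8 2 0 96 8 (conjR_app chevE8 2 0 88 8 (conjR_app chevE8 2 0 80 8 (conjR_app chevE8 2 0 72 8 (conjR_app chevE8 2 0 64 8 (conjR_app chevE8 2 0 56 8 (conjR_app chevE8 2 0 48 8 (conjR_app chevE8 2 0 40 8 (conjR_app chevE8 2 0 32 8 (conjR_app chevE8 2 0 24 8 (conjR_app chevE8 2 0 16 8 (conjR_app chevE8 2 0 8 8 cj_E8_2_0 cj_E8_2_1) cj_E8_2_2) cj_E8_2_3) cj_E8_2_4) cj_E8_2_5) cj_E8_2_6) cj_E8_2_7) cj_E8_2_8) cj_E8_2_9) cj_E8_2_10) cj_E8_2_11) cj_E8_2_12) cj_E8_2_13) cj_E8_2_14) cj_E8_2_15) cj_E8_2_16) cj_E8_2_17) cj_E8_2_18) cj_E8_2_19) cj_E8_2_20) cj_E8_2_21) cj_E8_2_22) cj_E8_2_23) cj_E8_2_24) cj_E8_2_25) cj_E8_2_26) cj_E8_2_27) cj_E8_2_28) cj_E8_2_29)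

theorem cj_E8_3 : conjR chevE8 3 0 chevE8.nroots = true := (conjR_app chevE8 3 0 232 8 (conjR_app chevE8 3 0 224 8 (conjR_app chevE8 3 0 216 8 (conjR_app chevE8 3 0 208 8 (conjR_app chevE8 3 0 200 8 (conjR_app chevE8 3 0 192 8 (conjR_app chevE8 3 0 184 8 (conjR_app chevE8 3 0 176 8 (conjR_app chevE8 3 0 168 8 (conjR_app chevE8 3 0 160 8 (conjR_app chevE8 3 0 152 8 (conjR_app chevE8 3 0 144 8 (conjR_app chevE8 3 0 136 8 (conjR_app chevE8 3 0 128 8 (conjR_app chevE8 3 0 120 8 (conjR_app chevE8 3 0 112 8 (conjR_app chevE8 3 0 104 8 (conjR_app chevE8 3 0 96 8 (conjR_app chevE8 3 0 88 8 (conjR_app chevE8 3 0 80 8 (conjR_app chevE8 3 0 72 8 (conjR_app chevE8 3 0 64 8 (conjR_app chevE8 3 0 56 8 (conjR_app chevE8 3 0 48 8 (conjR_app chevE8 3 0 40 8 (conjR_app chevE8 3 0 32 8 (conjR_app chevE8 3 0 24 8 (conjR_app chevE8 3 0 16 8 (conjR_app chevE8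 3 0 8 8 cj_E8_3_0 cj_E8_3_1) cj_E8_3_2) cj_E8_3_3) cj_E8_3_4) cj_E8_3_5) cj_E8_3_6) cj_E8_3_7) cj_E8_3_8) cj_E8_3_9) cj_E8_3_10) cj_E8_3_11) cj_E8_3_12) cj_E8_3_13) cj_E8_3_14) cj_E8_3_15) cj_E8_3_16) cj_E8_3_17) cj_E8_3_18) cj_E8_3_19) cj_E8_3_20) cj_E8_3_21) cj_E8_3_22) cj_E8_3_23) cj_E8_3_24) cj_E8_3_25) cj_E8_3_26) cj_E8_3_27) cj_E8_3_28) cj_E8_3_29)

theorem cj_E8_4 : conjR chevE8 4 0 chevE8.nroots = true := (conjR_app chevE8 4 0 232 8 (conjR_app chevE8 4 0 224 8 (conjR_app chevE8 4 0 216 8 (conjR_app chevE8 4 0 208 8 (conjR_app chevE8 4 0 200 8 (conjR_app chevE8 4 0 192 8 (conjR_app chevE8 4 0 184 8 (conjR_app chevE8 4 0 176 8 (conjR_app chevE8 4 0 168 8 (conjR_app chevE8 4 0 160 8 (conjR_app chevE8 4 0 152 8 (conjR_app chevE8 4 0 144 8 (conjR_app chevE8 4 0 136 8 (conjR_app chevE8 4 0 128 8 (conjR_app chevE8 4 0 120 8 (conjR_app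 chevE8 4 0 112 8 (conjR_app chevE8 4 0 104 8 (conjR_app chevE8 4 0 96 8 (conjR_app chevE8 4 0 88 8 (conjR_app chevE8 4 0 80 8 (conjR_app chevE8 4 0 72 8 (conjR_app chevE8 4 0 64 8 (conjR_app chevE8 4 0 56 8 (conjR_app chevE8 4 0 48 8 (conjR_app chevE8 4 0 40 8 (conjR_app chevE8 4 0 32 8 (conjR_app chevE8 4 0 24 8 (conjR_app chevE8 4 0 16 8 (conjR_app chevE8 4 0 8 8 cj_E8_4_0 cj_E8_4_1) cj_E8_4_2) cj_E8_4_3) cj_E8_4_4) cj_E8_4_5) cj_E8_4_6) cj_E8_4_7) cj_E8_4_8) cj_E8_4_9) cj_E8_4_10) cj_E8_4_11) cj_E8_4_12) cj_E8_4_13) cj_E8_4_14) cj_E8_4_15) cj_E8_4_16) cj_E8_4_17) cj_E8_4_18) cj_E8_4_19) cj_E8_4_20) cj_E8_4_21) cj_E8_4_22) cj_E8_4_23) cj_E8_4_24) cj_E8_4_25) cj_E8_4_26) cj_E8_4_27) cj_E8_4_28) cj_E8_4_29)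

theorem cj_E8_5 : conjR chevE8 5 0 chevE8.nroots = true := (conjR_app chevE8 5 0 232 8 (conjR_app chevE8 5 0 224 8 (conjR_app chevE8 5 0 216 8 (conjR_app chevE8 5 0 208 8 (conjR_app chevE8 5 0 200 8 (conjR_app chevE8 5 0 192 8 (conjR_app chevE8 5 0 184 8 (conjR_app chevE8 5 0 176 8 (conjR_app chevE8 5 0 168 8 (conjR_app chevE8 5 0 160 8 (conjR_app chevE8 5 0 152 8 (conjR_app chevE8 5 0 144 8 (conjR_app chevE8 5 0 136 8 (conjR_app chevE8 5 0 128 8 (conjR_app chevE8 5 0 120 8 (conjR_app chevE8 5 0 112 8 (conjR_app chevE8 5 0 104 8 (conjR_app chevE8 5 0 96 8 (conjR_app chevE8 5 0 88 8 (conjR_app chevE8 5 0 80 8 (conjR_app chevE8 5 0 72 8 (conjR_app chevE8 5 0 64 8 (conjR_app chevE8 5 0 56 8 (conjR_app chevE8 5 0 48 8 (conjR_app chevE8 5 0 40 8 (conjR_app chevE8 5 0 32 8 (conjR_app chevE8 5 0 24 8 (conjR_app chevE8 5 0 16 8 (conjR_app chevE8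 5 0 8 8 cj_E8_5_0 cj_E8_5_1) cj_E8_5_2) cj_E8_5_3) cj_E8_5_4) cj_E8_5_5) cj_E8_5_6) cj_E8_5_7) cj_E8_5_8) cj_E8_5_9) cj_E8_5_10) cj_E8_5_11) cj_E8_5_12) cj_E8_5_13) cj_E8_5_14) cj_E8_5_15) cj_E8_5_16) cj_E8_5_17) cj_E8_5_18) cj_E8_5_19) cj_E8_5_20) cj_E8_5_21) cj_E8_5_22) cj_E8_5_23) cj_E8_5_24) cj_E8_5_25) cj_E8_5_26) cj_E8_5_27) cj_E8_5_28) cj_E8_5_29)

theorem cj_E8_6 : conjR chevE8 6 0 chevE8.nroots = true := (conjR_app chevE8 6 0 232 8 (conjR_app chevE8 6 0 224 8 (conjR_app chevE8 6 0 216 8 (conjR_app chevE8 6 0 208 8 (conjR_app chevE8 6 0 200 8 (conjR_app chevE8 6 0 192 8 (conjR_app chevE8 6 0 184 8 (conjR_app chevE8 6 0 176 8 (conjR_app chevE8 6 0 168 8 (conjR_app chevE8 6 0 160 8 (conjR_app chevE8 6 0 152 8 (conjR_app chevE8 6 0 144 8 (conjR_app chevE8 6 0 136 8 (conjR_app chevE8 6 0 128 8 (conjR_app chevE8 6 0 120 8 (conjR_app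 chevE8 6 0 112 8 (conjR_app chevE8 6 0 104 8 (conjR_app chevE8 6 0 96 8 (conjR_app chevE8 6 0 88 8 (conjR_app chevE8 6 0 80 8 (conjR_app chevE8 6 0 72 8 (conjR_app chevE8 6 0 64 8 (conjR_app chevE8 6 0 56 8 (conjR_app chevE8 6 0 48 8 (conjR_app chevE8 6 0 40 8 (conjR_app chevE8 6 0 32 8 (conjR_app chevE8 6 0 24 8 (conjR_app chevE8 6 0 16 8 (conjR_app chevE8 6 0 8 8 cj_E8_6_0 cj_E8_6_1) cj_E8_6_2) cj_E8_6_3) cj_E8_6_4) cj_E8_6_5) cj_E8_6_6) cj_E8_6_7) cj_E8_6_8) cj_E8_6_9) cj_E8_6_10) cj_E8_6_11) cj_E8_6_12) cj_E8_6_13) cj_E8_6_14) cj_E8_6_15) cj_E8_6_16) cj_E8_6_17) cj_E8_6_18) cj_E8_6_19) cj_E8_6_20) cj_E8_6_21) cj_E8_6_22) cj_E8_6_23) cj_E8_6_24) cj_E8_6_25) cj_E8_6_26) cj_E8_6_27) cj_E8_6_28) cj_E8_6_29)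

theorem cj_E8_7 : conjR chevE8 7 0 chevE8.nroots = true := (conjR_app chevE8 7 0 232 8 (conjR_app chevE8 7 0 224 8 (conjR_app chevE8 7 0 216 8 (conjR_app chevE8 7 0 208 8 (conjR_app chevE8 7 0 200 8 (conjR_app chevE8 7 0 192 8 (conjR_app chevE8 7 0 184 8 (conjR_app chevE8 7 0 176 8 (conjR_app chevE8 7 0 168 8 (conjR_app chevE8 7 0 160 8 (conjR_app chevE8 7 0 152 8 (conjR_app chevE8 7 0 144 8 (conjR_app chevE8 7 0 136 8 (conjR_app chevE8 7 0 128 8 (conjR_app chevE8 7 0 120 8 (conjR_app chevE8 7 0 112 8 (conjR_app chevE8 7 0 104 8 (conjR_app chevE8 7 0 96 8 (conjR_app chevE8 7 0 88 8 (conjR_app chevE8 7 0 80 8 (conjR_app chevE8 7 0 72 8 (conjR_app chevE8 7 0 64 8 (conjR_app chevE8 7 0 56 8 (conjR_app chevE8 7 0 48 8 (conjR_app chevE8 7 0 40 8 (conjR_app chevE8 7 0 32 8 (conjR_app chevE8 7 0 24 8 (conjR_app chevE8 7 0 16 8 (conjR_app chevE8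 7 0 8 8 cj_E8_7_0 cj_E8_7_1) cj_E8_7_2) cj_E8_7_3) cj_E8_7_4) cj_E8_7_5) cj_E8_7_6) cj_E8_7_7) cj_E8_7_8) cj_E8_7_9) cj_E8_7_10) cj_E8_7_11) cj_E8_7_12) cj_E8_7_13) cj_E8_7_14) cj_E8_7_15) cj_E8_7_16) cj_E8_7_17) cj_E8_7_18) cj_E8_7_19) cj_E8_7_20) cj_E8_7_21) cj_E8_7_22) cj_E8_7_23) cj_E8_7_24) cj_E8_7_25) cj_E8_7_26) cj_E8_7_27) cj_E8_7_28) cj_E8_7_29)

theorem cj_E8 (i : ℕ) (hi : i < chevE8.rank) : conjR chevE8 i 0 chevE8.nroots = true := by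
  have hr : chevE8.rank = 8 := rfl
  rw [hr] at hi
  interval_cases i
  · exact cj_E8_0
  · exact cj_E8_1
  · exact cj_E8_2
  · exact cj_E8_3
  · exact cj_E8_4
  · exact cj_E8_5
  · exact cj_E8_6
  · exact cj_E8_7

theorem cj_of_mem (D : ChevalleyDatum)
    (hD : D ∈ [chevG2, chevB2, chevD4, chevF4, chevE6, chevE7, chevE8]) (i : ℕ) (hi : i < D.rank) :
    conjR D i 0 D.nroots = true := by
  simp only [List.mem_cons, List.not_mem_nil, or_false] at hD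
  rcases hD with rfl | rfl | rfl | rfl | rfl | rfl | rfl
  · exact cj_G2 i hi
  · exact cj_B2 i hi
  · exact cj_D4 i hi
  · exact cj_F4 i hi
  · exact cj_E6 i hi
  · exact cj_E7 i hi
  · exact cj_E8 i hi

theorem s1031 {F : Type*} [Field F] (D : ChevalleyDatum)
    (hD : D ∈ [chevG2, chevB2, chevD4, chevF4, chevE6, chevE7, chevE8]) (i s : ℕ) (hi : i < D.rank)
    (hs : s < D.nroots) :
    ∃ η : ℤ, (η = 1 ∨ η = -1) ∧
      ∀ t : F, D.nMat F (D.simple i) 1 * D.x F s t =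
        D.x F (D.reflectRoot i s) ((η : F) * t) * D.nMat F (D.simple i) 1 := by
  have hc := nchk_of_mem D hD i hi
  obtain ⟨hr, hnr⟩ := n_bounds D i hc
  exact ⟨etaF D i s, (n_props D i hc).1 s hs, fun t =>
    conj_sound D i s hs hr hnr (conjR_spec D i (cj_of_mem D hD i hi) s hs) t⟩

end Cfsg.Agent.Lib.Helper2.ChevFast
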