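import Mathlib
import Cfsg.Agent.Lib.Helper2.ChevGen

set_option autoImplicit false

namespace Cfsg.Agent.Lib.Helper2.ChevFast

open Cfsg.Lie
open Cfsg.Agent.Lib.Helper2.ChevAdd
open Cfsg.Agent.Lib.Helper2.ChevSym

def gw_G2 : List (ℕ × List ℕ) :=
  [(1, [1, 0, 1]), (1, [0, 1]), (0, [0, 1, 0]), (0, [1, 0]), (0, [0]), (1, [1]), (1, []), (
  0, []), (0, [1]), (0, [0, 1]), (1, [0]), (1, [1, 0])]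

set_option maxRecDepth 100000 in
theorem gen_G2 : genB chevG2 gw_G2 = true := by decide +kernel

def gw_B2 : List (ℕ × List ℕ) :=
  [(1, [0, 1]), (0, [1, 0]), (0, [0]), (1, [1]), (1, []), (0, []), (0, [1]), (1, [0])]

set_option maxRecDepth 100000 in
theorem gen_B2 : genB chevB2 gw_B2 = true := by decide +kernel

def gw_D4 : List (ℕ × List ℕ) :=
  [(0, [1, 3, 2, 1, 0]), (0, [3, 2, 1, 0]), (0, [2, 1, 0]), (0, [3, 1, 0]), (0, [1, 0]), (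
  0, [0]), (1, [3, 2, 1]), (1, [2, 1]), (1, [3, 1]), (1, [1]), (2, [2]), (3, [3]), (3, []), (
  2, []), (1, []), (1, [3]), (1, [2]), (1, [3, 2]), (0, []), (0, [1]), (0, [3, 1]), (
  0, [2, 1]), (0, [3, 2, 1]), (0, [1, 3, 2, 1])]

set_option maxRecDepth 100000 in
theorem gen_D4 : genB chevD4 gw_D4 = true := by decide +kernel

def gw_F4 : List (ℕ × List ℕ) :=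
  [(2, [3, 2, 1, 2, 3, 0, 1, 2]), (2, [2, 1, 2, 3, 0, 1, 2]), (2, [1, 2, 3, 0, 1, 2]), (
  0, [0, 1, 2, 3, 1, 2, 1, 0]), (2, [2, 3, 0, 1, 2]), (2, [3, 0, 1, 2]), (2, [0, 1, 2]), (
  0, [1, 2, 3, 1, 2, 1, 0]), (0, [2, 3, 1, 2, 1, 0]), (0, [3, 1, 2, 1, 0]), (
  0, [1, 2, 1, 0]), (0, [3, 2, 1, 0]), (0, [2, 1, 0]), (0, [1, 0]), (0, [0]), (
  2, [2, 3, 1, 2]), (2, [3, 1, 2]), (2, [1, 2]), (1, [3, 2, 1]), (1, [2, 1]), (1, [1]), (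
  2, [3, 2]), (2, [2]), (3, [3]), (3, []), (2, []), (2, [3]), (1, []), (1, [2]), (1, [3, 2]), (
  2, [1]), (2, [3, 1]), (2, [2, 3, 1]), (0, []), (0, [1]), (0, [2, 1]), (0, [3, 2, 1]), (
  0, [1, 2, 1]), (0, [3, 1, 2, 1]), (0, [2, 3, 1, 2, 1]), (0, [1, 2, 3, 1, 2, 1]), (
  2, [0, 1]), (2, [3, 0, 1]), (2, [2, 3, 0, 1]), (0, [0, 1, 2, 3, 1, 2, 1]), (
  2, [1, 2, 3, 0, 1]), (2, [2, 1, 2, 3, 0, 1]), (2, [3, 2, 1, 2, 3, 0, 1])]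

set_option maxRecDepth 100000 in
theorem gen_F4 : genB chevF4 gw_F4 = true := by decide +kernel

def gw_E6 : List (ℕ × List ℕ) :=
  [(0, [1, 3, 4, 5, 2, 3, 4, 1, 3, 2, 0]), (0, [3, 4, 5, 2, 3, 4, 1, 3, 2, 0]), (
  0, [4, 5, 2, 3, 4, 1, 3, 2, 0]), (0, [5, 2, 3, 4, 1, 3, 2, 0]), (0, [2, 3, 4, 1, 3, 2, 0]), (
  0, [4, 5, 3, 4, 1, 3, 2, 0]), (0, [5, 3, 4, 1, 3, 2, 0]), (0, [3, 4, 1, 3, 2, 0]), (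
  0, [5, 4, 1, 3, 2, 0]), (0, [4, 1, 3, 2, 0]), (0, [1, 3, 2, 0]), (0, [5, 4, 3, 2, 0]), (
  0, [4, 3, 2, 0]), (0, [3, 2, 0]), (0, [2, 0]), (0, [0]), (1, [4, 5, 3, 4, 2, 3, 1]), (
  1, [5, 3, 4, 2, 3, 1]), (1, [3, 4, 2, 3, 1]), (1, [5, 4, 2, 3, 1]), (1, [4, 2, 3, 1]), (
  1, [2, 3, 1]), (1, [5, 4, 3, 1]), (1, [4, 3, 1]), (1, [3, 1]), (1, [1]), (2, [5, 4, 3, 2]), (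
  2, [4, 3, 2]), (2, [3, 2]), (2, [2]), (3, [5, 4, 3]), (3, [4, 3]), (3, [3]), (4, [5, 4]), (
  4, [4]), (5, [5]), (5, []), (4, []), (4, [5]), (3, []), (3, [4]), (3, [5, 4]), (2, []), (
  2, [3]), (2, [4, 3]), (2, [5, 4, 3]), (1, []), (1, [3]), (1, [4, 3]), (1, [5, 4, 3]), (
  1, [2, 3]), (1, [4, 2, 3]), (1, [5, 4, 2, 3]), (1, [3, 4, 2, 3]), (1, [5, 3, 4, 2, 3]), (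
  1, [4, 5, 3, 4, 2, 3]), (0, []), (0, [2]), (0, [3, 2]), (0, [4, 3, 2]), (0, [5, 4, 3, 2]), (
  0, [1, 3, 2]), (0, [4, 1, 3, 2]), (0, [5, 4, 1, 3, 2]), (0, [3, 4, 1, 3, 2]), (
  0, [5, 3, 4, 1, 3, 2]), (0, [4, 5, 3, 4, 1, 3, 2]), (0, [2, 3, 4, 1, 3, 2]), (
  0, [5, 2, 3, 4, 1, 3, 2]), (0, [4, 5, 2, 3, 4, 1, 3, 2]), (0, [3, 4, 5, 2, 3, 4, 1, 3, 2]), (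
  0, [1, 3, 4, 5, 2, 3, 4, 1, 3, 2])]

set_option maxRecDepth 100000 in
theorem gen_E6 : genB chevE6 gw_E6 = true := by decide +kernel

def gw_E7 : List (ℕ × List ℕ) :=
  [(0, [0, 2, 3, 4, 5, 6, 1, 3, 4, 5, 2, 3, 4, 1, 3, 2, 0]), (
  0, [2, 3, 4, 5, 6, 1, 3, 4, 5, 2, 3, 4, 1, 3, 2, 0]), (
  0, [3, 4, 5, 6, 1, 3, 4, 5, 2, 3, 4, 1, 3, 2, 0]), (
  0, [4, 5, 6, 1, 3, 4, 5, 2, 3, 4, 1, 3, 2, 0]), (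
  0, [5, 6, 1, 3, 4, 5, 2, 3, 4, 1, 3, 2, 0]), (0, [6, 1, 3, 4, 5, 2, 3, 4, 1, 3, 2, 0]), (
  0, [1, 3, 4, 5, 2, 3, 4, 1, 3, 2, 0]), (0, [4, 5, 6, 3, 4, 5, 2, 3, 4, 1, 3, 2, 0]), (
  0, [5, 6, 3, 4, 5, 2, 3, 4, 1, 3, 2, 0]), (0, [6, 3, 4, 5, 2, 3, 4, 1, 3, 2, 0]), (
  0, [3, 4, 5, 2, 3, 4, 1, 3, 2, 0]), (0, [5, 6, 4, 5, 2, 3, 4, 1, 3, 2, 0]), (
  0, [6, 4, 5, 2, 3, 4, 1, 3, 2, 0]), (0, [4, 5, 2, 3, 4, 1, 3, 2, 0]), (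
  0, [6, 5, 2, 3, 4, 1, 3, 2, 0]), (0, [5, 2, 3, 4, 1, 3, 2, 0]), (0, [2, 3, 4, 1, 3, 2, 0]), (
  0, [5, 6, 4, 5, 3, 4, 1, 3, 2, 0]), (0, [6, 4, 5, 3, 4, 1, 3, 2, 0]), (
  0, [4, 5, 3, 4, 1, 3, 2, 0]), (0, [6, 5, 3, 4, 1, 3, 2, 0]), (0, [5, 3, 4, 1, 3, 2, 0]), (
  0, [3, 4, 1, 3, 2, 0]), (0, [6, 5, 4, 1, 3, 2, 0]), (0, [5, 4, 1, 3, 2, 0]), (
  0, [4, 1, 3, 2, 0]), (0, [1, 3, 2, 0]), (0, [6, 5, 4, 3, 2, 0]), (0, [5, 4, 3, 2, 0]), (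
  0, [4, 3, 2, 0]), (0, [3, 2, 0]), (0, [2, 0]), (0, [0]), (1, [5, 6, 4, 5, 3, 4, 2, 3, 1]), (
  1, [6, 4, 5, 3, 4, 2, 3, 1]), (1, [4, 5, 3, 4, 2, 3, 1]), (1, [6, 5, 3, 4, 2, 3, 1]), (
  1, [5, 3, 4, 2, 3, 1]), (1, [3, 4, 2, 3, 1]), (1, [6, 5, 4, 2, 3, 1]), (
  1, [5, 4, 2, 3, 1]), (1, [4, 2, 3, 1]), (1, [2, 3, 1]), (1, [6, 5, 4, 3, 1]), (
  1, [5, 4, 3, 1]), (1, [4, 3, 1]), (1, [3, 1]), (1, [1]), (2, [6, 5, 4, 3, 2]), (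
  2, [5, 4, 3, 2]), (2, [4, 3, 2]), (2, [3, 2]), (2, [2]), (3, [6, 5, 4, 3]), (3, [5, 4, 3]), (
  3, [4, 3]), (3, [3]), (4, [6, 5, 4]), (4, [5, 4]), (4, [4]), (5, [6, 5]), (5, [5]), (
  6, [6]), (6, []), (5, []), (5, [6]), (4, []), (4, [5]), (4, [6, 5]), (3, []), (3, [4]), (
  3, [5, 4]), (3, [6, 5, 4]), (2, []), (2, [3]), (2, [4, 3]), (2, [5, 4, 3]), (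
  2, [6, 5, 4, 3]), (1, []), (1, [3]), (1, [4, 3]), (1, [5, 4, 3]), (1, [6, 5, 4, 3]), (
  1, [2, 3]), (1, [4, 2, 3]), (1, [5, 4, 2, 3]), (1, [6, 5, 4, 2, 3]), (1, [3, 4, 2, 3]), (
  1, [5, 3, 4, 2, 3]), (1, [6, 5, 3, 4, 2, 3]), (1, [4, 5, 3, 4, 2, 3]), (
  1, [6, 4, 5, 3, 4, 2, 3]), (1, [5, 6, 4, 5, 3, 4, 2, 3]), (0, []), (0, [2]), (0, [3, 2]), (
  0, [4, 3, 2]), (0, [5, 4, 3, 2]), (0, [6, 5, 4, 3, 2]), (0, [1, 3, 2]), (0, [4, 1, 3, 2]), (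
  0, [5, 4, 1, 3, 2]), (0, [6, 5, 4, 1, 3, 2]), (0, [3, 4, 1, 3, 2]), (
  0, [5, 3, 4, 1, 3, 2]), (0, [6, 5, 3, 4, 1, 3, 2]), (0, [4, 5, 3, 4, 1, 3, 2]), (
  0, [6, 4, 5, 3, 4, 1, 3, 2]), (0, [5, 6, 4, 5, 3, 4, 1, 3, 2]), (0, [2, 3, 4, 1, 3, 2]), (
  0, [5, 2, 3, 4, 1, 3, 2]), (0, [6, 5, 2, 3, 4, 1, 3, 2]), (0, [4, 5, 2, 3, 4, 1, 3, 2]), (
  0, [6, 4, 5, 2, 3, 4, 1, 3, 2]), (0, [5, 6, 4, 5, 2, 3, 4, 1, 3, 2]), (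
  0, [3, 4, 5, 2, 3, 4, 1, 3, 2]), (0, [6, 3, 4, 5, 2, 3, 4, 1, 3, 2]), (
  0, [5, 6, 3, 4, 5, 2, 3, 4, 1, 3, 2]), (0, [4, 5, 6, 3, 4, 5, 2, 3, 4, 1, 3, 2]), (
  0, [1, 3, 4, 5, 2, 3, 4, 1, 3, 2]), (0, [6, 1, 3, 4, 5, 2, 3, 4, 1, 3, 2]), (
  0, [5, 6, 1, 3, 4, 5, 2, 3, 4, 1, 3, 2]), (0, [4, 5, 6, 1, 3, 4, 5, 2, 3, 4, 1, 3, 2]), (
  0, [3, 4, 5, 6, 1, 3, 4, 5, 2, 3, 4, 1, 3, 2]), (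
  0, [2, 3, 4, 5, 6, 1, 3, 4, 5, 2, 3, 4, 1, 3, 2]), (
  0, [0, 2, 3, 4, 5, 6, 1, 3, 4, 5, 2, 3, 4, 1, 3, 2])]

set_option maxRecDepth 100000 in
theorem gen_E7 : genB chevE7 gw_E7 = true := by decide +kernel

def gw_E8 : List (ℕ × List ℕ) :=
  
  [(0, [7, 6, 5, 4, 3, 2, 1, 3, 4, 5, 6, 7, 0, 2, 3, 4, 5, 6, 1, 3, 4, 5, 2, 3, 4, 1, 3, 2, 0]), (
  0, [6, 5, 4, 3, 2, 1, 3, 4, 5, 6, 7, 0, 2, 3, 4, 5, 6, 1, 3, 4, 5, 2, 3, 4, 1, 3, 2, 0]), (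
  0, [5, 4, 3, 2, 1, 3, 4, 5, 6, 7, 0, 2, 3, 4, 5, 6, 1, 3, 4, 5, 2, 3, 4, 1, 3, 2, 0]), (
  0, [4, 3, 2, 1, 3, 4, 5, 6, 7, 0, 2, 3, 4, 5, 6, 1, 3, 4, 5, 2, 3, 4, 1, 3, 2, 0]), (
  0, [3, 2, 1, 3, 4, 5, 6, 7, 0, 2, 3, 4, 5, 6, 1, 3, 4, 5, 2, 3, 4, 1, 3, 2, 0]), (
  0, [2, 1, 3, 4, 5, 6, 7, 0, 2, 3, 4, 5, 6, 1, 3, 4, 5, 2, 3, 4, 1, 3, 2, 0]), (
  0, [1, 3, 4, 5, 6, 7, 0, 2, 3, 4, 5, 6, 1, 3, 4, 5, 2, 3, 4, 1, 3, 2, 0]), (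
  0, [2, 3, 4, 5, 6, 7, 0, 2, 3, 4, 5, 6, 1, 3, 4, 5, 2, 3, 4, 1, 3, 2, 0]), (
  0, [3, 4, 5, 6, 7, 0, 2, 3, 4, 5, 6, 1, 3, 4, 5, 2, 3, 4, 1, 3, 2, 0]), (
  0, [4, 5, 6, 7, 0, 2, 3, 4, 5, 6, 1, 3, 4, 5, 2, 3, 4, 1, 3, 2, 0]), (
  0, [5, 6, 7, 0, 2, 3, 4, 5, 6, 1, 3, 4, 5, 2, 3, 4, 1, 3, 2, 0]), (
  0, [6, 7, 0, 2, 3, 4, 5, 6, 1, 3, 4, 5, 2, 3, 4, 1, 3, 2, 0]), (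
  0, [7, 0, 2, 3, 4, 5, 6, 1, 3, 4, 5, 2, 3, 4, 1, 3, 2, 0]), (
  0, [0, 2, 3, 4, 5, 6, 1, 3, 4, 5, 2, 3, 4, 1, 3, 2, 0]), (
  0, [1, 3, 4, 5, 6, 7, 2, 3, 4, 5, 6, 1, 3, 4, 5, 2, 3, 4, 1, 3, 2, 0]), (
  0, [3, 4, 5, 6, 7, 2, 3, 4, 5, 6, 1, 3, 4, 5, 2, 3, 4, 1, 3, 2, 0]), (
  0, [4, 5, 6, 7, 2, 3, 4, 5, 6, 1, 3, 4, 5, 2, 3, 4, 1, 3, 2, 0]), (
  0, [5, 6, 7, 2, 3, 4, 5, 6, 1, 3, 4, 5, 2, 3, 4, 1, 3, 2, 0]), (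
  0, [6, 7, 2, 3, 4, 5, 6, 1, 3, 4, 5, 2, 3, 4, 1, 3, 2, 0]), (
  0, [7, 2, 3, 4, 5, 6, 1, 3, 4, 5, 2, 3, 4, 1, 3, 2, 0]), (
  0, [2, 3, 4, 5, 6, 1, 3, 4, 5, 2, 3, 4, 1, 3, 2, 0]), (
  0, [4, 5, 6, 7, 3, 4, 5, 6, 1, 3, 4, 5, 2, 3, 4, 1, 3, 2, 0]), (
  0, [5, 6, 7, 3, 4, 5, 6, 1, 3, 4, 5, 2, 3, 4, 1, 3, 2, 0]), (
  0, [6, 7, 3, 4, 5, 6, 1, 3, 4, 5, 2, 3, 4, 1, 3, 2, 0]), (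
  0, [7, 3, 4, 5, 6, 1, 3, 4, 5, 2, 3, 4, 1, 3, 2, 0]), (
  0, [3, 4, 5, 6, 1, 3, 4, 5, 2, 3, 4, 1, 3, 2, 0]), (
  0, [5, 6, 7, 4, 5, 6, 1, 3, 4, 5, 2, 3, 4, 1, 3, 2, 0]), (
  0, [6, 7, 4, 5, 6, 1, 3, 4, 5, 2, 3, 4, 1, 3, 2, 0]), (
  0, [7, 4, 5, 6, 1, 3, 4, 5, 2, 3, 4, 1, 3, 2, 0]), (
  0, [4, 5, 6, 1, 3, 4, 5, 2, 3, 4, 1, 3, 2, 0]), (
  0, [6, 7, 5, 6, 1, 3, 4, 5, 2, 3, 4, 1, 3, 2, 0]), (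
  0, [7, 5, 6, 1, 3, 4, 5, 2, 3, 4, 1, 3, 2, 0]), (
  0, [5, 6, 1, 3, 4, 5, 2, 3, 4, 1, 3, 2, 0]), (0, [7, 6, 1, 3, 4, 5, 2, 3, 4, 1, 3, 2, 0]), (
  0, [6, 1, 3, 4, 5, 2, 3, 4, 1, 3, 2, 0]), (0, [1, 3, 4, 5, 2, 3, 4, 1, 3, 2, 0]), (
  0, [5, 6, 7, 4, 5, 6, 3, 4, 5, 2, 3, 4, 1, 3, 2, 0]), (
  0, [6, 7, 4, 5, 6, 3, 4, 5, 2, 3, 4, 1, 3, 2, 0]), (
  0, [7, 4, 5, 6, 3, 4, 5, 2, 3, 4, 1, 3, 2, 0]), (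
  0, [4, 5, 6, 3, 4, 5, 2, 3, 4, 1, 3, 2, 0]), (
  0, [6, 7, 5, 6, 3, 4, 5, 2, 3, 4, 1, 3, 2, 0]), (
  0, [7, 5, 6, 3, 4, 5, 2, 3, 4, 1, 3, 2, 0]), (0, [5, 6, 3, 4, 5, 2, 3, 4, 1, 3, 2, 0]), (
  0, [7, 6, 3, 4, 5, 2, 3, 4, 1, 3, 2, 0]), (0, [6, 3, 4, 5, 2, 3, 4, 1, 3, 2, 0]), (
  0, [3, 4, 5, 2, 3, 4, 1, 3, 2, 0]), (0, [6, 7, 5, 6, 4, 5, 2, 3, 4, 1, 3, 2, 0]), (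
  0, [7, 5, 6, 4, 5, 2, 3, 4, 1, 3, 2, 0]), (0, [5, 6, 4, 5, 2, 3, 4, 1, 3, 2, 0]), (
  0, [7, 6, 4, 5, 2, 3, 4, 1, 3, 2, 0]), (0, [6, 4, 5, 2, 3, 4, 1, 3, 2, 0]), (
  0, [4, 5, 2, 3, 4, 1, 3, 2, 0]), (0, [7, 6, 5, 2, 3, 4, 1, 3, 2, 0]), (
  0, [6, 5, 2, 3, 4, 1, 3, 2, 0]), (0, [5, 2, 3, 4, 1, 3, 2, 0]), (0, [2, 3, 4, 1, 3, 2, 0]), (
  0, [6, 7, 5, 6, 4, 5, 3, 4, 1, 3, 2, 0]), (0, [7, 5, 6, 4, 5, 3, 4, 1, 3, 2, 0]), (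
  0, [5, 6, 4, 5, 3, 4, 1, 3, 2, 0]), (0, [7, 6, 4, 5, 3, 4, 1, 3, 2, 0]), (
  0, [6, 4, 5, 3, 4, 1, 3, 2, 0]), (0, [4, 5, 3, 4, 1, 3, 2, 0]), (
  0, [7, 6, 5, 3, 4, 1, 3, 2, 0]), (0, [6, 5, 3, 4, 1, 3, 2, 0]), (0, [5, 3, 4, 1, 3, 2, 0]), (
  0, [3, 4, 1, 3, 2, 0]), (0, [7, 6, 5, 4, 1, 3, 2, 0]), (0, [6, 5, 4, 1, 3, 2, 0]), (
  0, [5, 4, 1, 3, 2, 0]), (0, [4, 1, 3, 2, 0]), (0, [1, 3, 2, 0]), (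
  0, [7, 6, 5, 4, 3, 2, 0]), (0, [6, 5, 4, 3, 2, 0]), (0, [5, 4, 3, 2, 0]), (
  0, [4, 3, 2, 0]), (0, [3, 2, 0]), (0, [2, 0]), (0, [0]), (
  1, [6, 7, 5, 6, 4, 5, 3, 4, 2, 3, 1]), (1, [7, 5, 6, 4, 5, 3, 4, 2, 3, 1]), (
  1, [5, 6, 4, 5, 3, 4, 2, 3, 1]), (1, [7, 6, 4, 5, 3, 4, 2, 3, 1]), (
  1, [6, 4, 5, 3, 4, 2, 3, 1]), (1, [4, 5, 3, 4, 2, 3, 1]), (1, [7, 6, 5, 3, 4, 2, 3, 1]), (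
  1, [6, 5, 3, 4, 2, 3, 1]), (1, [5, 3, 4, 2, 3, 1]), (1, [3, 4, 2, 3, 1]), (
  1, [7, 6, 5, 4, 2, 3, 1]), (1, [6, 5, 4, 2, 3, 1]), (1, [5, 4, 2, 3, 1]), (
  1, [4, 2, 3, 1]), (1, [2, 3, 1]), (1, [7, 6, 5, 4, 3, 1]), (1, [6, 5, 4, 3, 1]), (
  1, [5, 4, 3, 1]), (1, [4, 3, 1]), (1, [3, 1]), (1, [1]), (2, [7, 6, 5, 4, 3, 2]), (
  2, [6, 5, 4, 3, 2]), (2, [5, 4, 3, 2]), (2, [4, 3, 2]), (2, [3, 2]), (2, [2]), (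
  3, [7, 6, 5, 4, 3]), (3, [6, 5, 4, 3]), (3, [5, 4, 3]), (3, [4, 3]), (3, [3]), (
  4, [7, 6, 5, 4]), (4, [6, 5, 4]), (4, [5, 4]), (4, [4]), (5, [7, 6, 5]), (5, [6, 5]), (
  5, [5]), (6, [7, 6]), (6, [6]), (7, [7]), (7, []), (6, []), (6, [7]), (5, []), (5, [6]), (
  5, [7, 6]), (4, []), (4, [5]), (4, [6, 5]), (4, [7, 6, 5]), (3, []), (3, [4]), (3, [5, 4]), (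
  3, [6, 5, 4]), (3, [7, 6, 5, 4]), (2, []), (2, [3]), (2, [4, 3]), (2, [5, 4, 3]), (
  2, [6, 5, 4, 3]), (2, [7, 6, 5, 4, 3]), (1, []), (1, [3]), (1, [4, 3]), (1, [5, 4, 3]), (
  1, [6, 5, 4, 3]), (1, [7, 6, 5, 4, 3]), (1, [2, 3]), (1, [4, 2, 3]), (1, [5, 4, 2, 3]), (
  1, [6, 5, 4, 2, 3]), (1, [7, 6, 5, 4, 2, 3]), (1, [3, 4, 2, 3]), (1, [5, 3, 4, 2, 3]), (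
  1, [6, 5, 3, 4, 2, 3]), (1, [7, 6, 5, 3, 4, 2, 3]), (1, [4, 5, 3, 4, 2, 3]), (
  1, [6, 4, 5, 3, 4, 2, 3]), (1, [7, 6, 4, 5, 3, 4, 2, 3]), (1, [5, 6, 4, 5, 3, 4, 2, 3]), (
  1, [7, 5, 6, 4, 5, 3, 4, 2, 3]), (1, [6, 7, 5, 6, 4, 5, 3, 4, 2, 3]), (0, []), (0, [2]), (
  0, [3, 2]), (0, [4, 3, 2]), (0, [5, 4, 3, 2]), (0, [6, 5, 4, 3, 2]), (
  0, [7, 6, 5, 4, 3, 2]), (0, [1, 3, 2]), (0, [4, 1, 3, 2]), (0, [5, 4, 1, 3, 2]), (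
  0, [6, 5, 4, 1, 3, 2]), (0, [7, 6, 5, 4, 1, 3, 2]), (0, [3, 4, 1, 3, 2]), (
  0, [5, 3, 4, 1, 3, 2]), (0, [6, 5, 3, 4, 1, 3, 2]), (0, [7, 6, 5, 3, 4, 1, 3, 2]), (
  0, [4, 5, 3, 4, 1, 3, 2]), (0, [6, 4, 5, 3, 4, 1, 3, 2]), (0, [7, 6, 4, 5, 3, 4, 1, 3, 2]), (
  0, [5, 6, 4, 5, 3, 4, 1, 3, 2]), (0, [7, 5, 6, 4, 5, 3, 4, 1, 3, 2]), (
  0, [6, 7, 5, 6, 4, 5, 3, 4, 1, 3, 2]), (0, [2, 3, 4, 1, 3, 2]), (0, [5, 2, 3, 4, 1, 3, 2]), (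
  0, [6, 5, 2, 3, 4, 1, 3, 2]), (0, [7, 6, 5, 2, 3, 4, 1, 3, 2]), (
  0, [4, 5, 2, 3, 4, 1, 3, 2]), (0, [6, 4, 5, 2, 3, 4, 1, 3, 2]), (
  0, [7, 6, 4, 5, 2, 3, 4, 1, 3, 2]), (0, [5, 6, 4, 5, 2, 3, 4, 1, 3, 2]), (
  0, [7, 5, 6, 4, 5, 2, 3, 4, 1, 3, 2]), (0, [6, 7, 5, 6, 4, 5, 2, 3, 4, 1, 3, 2]), (
  0, [3, 4, 5, 2, 3, 4, 1, 3, 2]), (0, [6, 3, 4, 5, 2, 3, 4, 1, 3, 2]), (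
  0, [7, 6, 3, 4, 5, 2, 3, 4, 1, 3, 2]), (0, [5, 6, 3, 4, 5, 2, 3, 4, 1, 3, 2]), (
  0, [7, 5, 6, 3, 4, 5, 2, 3, 4, 1, 3, 2]), (0, [6, 7, 5, 6, 3, 4, 5, 2, 3, 4, 1, 3, 2]), (
  0, [4, 5, 6, 3, 4, 5, 2, 3, 4, 1, 3, 2]), (0, [7, 4, 5, 6, 3, 4, 5, 2, 3, 4, 1, 3, 2]), (
  0, [6, 7, 4, 5, 6, 3, 4, 5, 2, 3, 4, 1, 3, 2]), (
  0, [5, 6, 7, 4, 5, 6, 3, 4, 5, 2, 3, 4, 1, 3, 2]), (0, [1, 3, 4, 5, 2, 3, 4, 1, 3, 2]), (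
  0, [6, 1, 3, 4, 5, 2, 3, 4, 1, 3, 2]), (0, [7, 6, 1, 3, 4, 5, 2, 3, 4, 1, 3, 2]), (
  0, [5, 6, 1, 3, 4, 5, 2, 3, 4, 1, 3, 2]), (0, [7, 5, 6, 1, 3, 4, 5, 2, 3, 4, 1, 3, 2]), (
  0, [6, 7, 5, 6, 1, 3, 4, 5, 2, 3, 4, 1, 3, 2]), (
  0, [4, 5, 6, 1, 3, 4, 5, 2, 3, 4, 1, 3, 2]), (
  0, [7, 4, 5, 6, 1, 3, 4, 5, 2, 3, 4, 1, 3, 2]), (
  0, [6, 7, 4, 5, 6, 1, 3, 4, 5, 2, 3, 4, 1, 3, 2]), (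
  0, [5, 6, 7, 4, 5, 6, 1, 3, 4, 5, 2, 3, 4, 1, 3, 2]), (
  0, [3, 4, 5, 6, 1, 3, 4, 5, 2, 3, 4, 1, 3, 2]), (
  0, [7, 3, 4, 5, 6, 1, 3, 4, 5, 2, 3, 4, 1, 3, 2]), (
  0, [6, 7, 3, 4, 5, 6, 1, 3, 4, 5, 2, 3, 4, 1, 3, 2]), (
  0, [5, 6, 7, 3, 4, 5, 6, 1, 3, 4, 5, 2, 3, 4, 1, 3, 2]), (
  0, [4, 5, 6, 7, 3, 4, 5, 6, 1, 3, 4, 5, 2, 3, 4, 1, 3, 2]), (
  0, [2, 3, 4, 5, 6, 1, 3, 4, 5, 2, 3, 4, 1, 3, 2]), (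
  0, [7, 2, 3, 4, 5, 6, 1, 3, 4, 5, 2, 3, 4, 1, 3, 2]), (
  0, [6, 7, 2, 3, 4, 5, 6, 1, 3, 4, 5, 2, 3, 4, 1, 3, 2]), (
  0, [5, 6, 7, 2, 3, 4, 5, 6, 1, 3, 4, 5, 2, 3, 4, 1, 3, 2]), (
  0, [4, 5, 6, 7, 2, 3, 4, 5, 6, 1, 3, 4, 5, 2, 3, 4, 1, 3, 2]), (
  0, [3, 4, 5, 6, 7, 2, 3, 4, 5, 6, 1, 3, 4, 5, 2, 3, 4, 1, 3, 2]), (
  0, [1, 3, 4, 5, 6, 7, 2, 3, 4, 5, 6, 1, 3, 4, 5, 2, 3, 4, 1, 3, 2]), (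
  0, [0, 2, 3, 4, 5, 6, 1, 3, 4, 5, 2, 3, 4, 1, 3, 2]), (
  0, [7, 0, 2, 3, 4, 5, 6, 1, 3, 4, 5, 2, 3, 4, 1, 3, 2]), (
  0, [6, 7, 0, 2, 3, 4, 5, 6, 1, 3, 4, 5, 2, 3, 4, 1, 3, 2]), (
  0, [5, 6, 7, 0, 2, 3, 4, 5, 6, 1, 3, 4, 5, 2, 3, 4, 1, 3, 2]), (
  0, [4, 5, 6, 7, 0, 2, 3, 4, 5, 6, 1, 3, 4, 5, 2, 3, 4, 1, 3, 2]), (
  0, [3, 4, 5, 6, 7, 0, 2, 3, 4, 5, 6, 1, 3, 4, 5, 2, 3, 4, 1, 3, 2]), (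
  0, [2, 3, 4, 5, 6, 7, 0, 2, 3, 4, 5, 6, 1, 3, 4, 5, 2, 3, 4, 1, 3, 2]), (
  0, [1, 3, 4, 5, 6, 7, 0, 2, 3, 4, 5, 6, 1, 3, 4, 5, 2, 3, 4, 1, 3, 2]), (
  0, [2, 1, 3, 4, 5, 6, 7, 0, 2, 3, 4, 5, 6, 1, 3, 4, 5, 2, 3, 4, 1, 3, 2]), (
  0, [3, 2, 1, 3, 4, 5, 6, 7, 0, 2, 3, 4, 5, 6, 1, 3, 4, 5, 2, 3, 4, 1, 3, 2]), (
  0, [4, 3, 2, 1, 3, 4, 5, 6, 7, 0, 2, 3, 4, 5, 6, 1, 3, 4, 5, 2, 3, 4, 1, 3, 2]), (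
  0, [5, 4, 3, 2, 1, 3, 4, 5, 6, 7, 0, 2, 3, 4, 5, 6, 1, 3, 4, 5, 2, 3, 4, 1, 3, 2]), (
  0, [6, 5, 4, 3, 2, 1, 3, 4, 5, 6, 7, 0, 2, 3, 4, 5, 6, 1, 3, 4, 5, 2, 3, 4, 1, 3, 2]), (
  0, [7, 6, 5, 4, 3, 2, 1, 3, 4, 5, 6, 7, 0, 2, 3, 4, 5, 6, 1, 3, 4, 5, 2, 3, 4, 1, 3, 2])]

set_option maxRecDepth 100000 in
theorem gen_E8 : genB chevE8 gw_E8 = true := by decide +kernel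

theorem gen_of_mem (D : ChevalleyDatum)
    (hD : D ∈ [chevG2, chevB2, chevD4, chevF4, chevE6, chevE7, chevE8]) :
    ∃ gw : List (ℕ × List ℕ), genB D gw = true := by
  simp only [List.mem_cons, List.not_mem_nil, or_false] at hD
  rcases hD with rfl | rfl | rfl | rfl | rfl | rfl | rfl
  · exact ⟨gw_G2, gen_G2⟩
  · exact ⟨gw_B2, gen_B2⟩
  · exact ⟨gw_D4, gen_D4⟩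
  · exact ⟨gw_F4, gen_F4⟩
  · exact ⟨gw_E6, gen_E6⟩
  · exact ⟨gw_E7, gen_E7⟩
  · exact ⟨gw_E8, gen_E8⟩

end Cfsg.Agent.Lib.Helper2.ChevFast
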