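import Mathlib
import Cfsg.Agent.Lib.Helper2.ChevMonS
import Cfsg.Agent.Lib.Helper2.ChevMon6
import Cfsg.Agent.Lib.Helper2.ChevMon7a
import Cfsg.Agent.Lib.Helper2.ChevMon7b
import Cfsg.Agent.Lib.Helper2.ChevMon7c
import Cfsg.Agent.Lib.Helper2.ChevMon8x00
import Cfsg.Agent.Lib.Helper2.ChevMon8x01
import Cfsg.Agent.Lib.Helper2.ChevMon8x02
import Cfsg.Agent.Lib.Helper2.ChevMon8x03
import Cfsg.Agent.Lib.Helper2.ChevMon8x04
import Cfsg.Agent.Lib.Helper2.ChevMon8x05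
import Cfsg.Agent.Lib.Helper2.ChevMon8x06
import Cfsg.Agent.Lib.Helper2.ChevMon8x07
import Cfsg.Agent.Lib.Helper2.ChevMon8x08
import Cfsg.Agent.Lib.Helper2.ChevMon8x09
import Cfsg.Agent.Lib.Helper2.ChevMon8x10
import Cfsg.Agent.Lib.Helper2.ChevMon8x11
import Cfsg.Agent.Lib.Helper2.ChevMon8x12
import Cfsg.Agent.Lib.Helper2.ChevMon8x13
import Cfsg.Agent.Lib.Helper2.ChevMon8x14

set_option autoImplicit false

namespace Cfsg.Agent.Lib.Helper2.ChevFast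

open Cfsg.Lie
open Cfsg.Agent.Lib.Helper2.ChevAdd
open Cfsg.Agent.Lib.Helper2.ChevSym

theorem mon_G2 : monR chevG2 0 chevG2.nroots = true := mon_G2_0

theorem mon_B2 : monR chevB2 0 chevB2.nroots = true := mon_B2_0

theorem mon_D4 : monR chevD4 0 chevD4.nroots = true := mon_D4_0

theorem mon_F4 : monR chevF4 0 chevF4.nroots = true := (monR_app chevF4 0 24 24 mon_F4_0 mon_F4_1)

theorem mon_E6 : monR chevE6 0 chevE6.nroots = true := (monR_app chevE6 0 60 12 (monR_app chevE6 0 48 12 (monR_app chevE6 0 36 12 (monR_app chevE6 0 24 12 (monR_app chevE6 0 12 12 mon_E6_0 mon_E6_1) mon_E6_2) mon_E6_3) mon_E6_4) mon_E6_5)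

theorem mon_E7 : monR chevE7 0 chevE7.nroots = true := (monR_app chevE7 0 120 6 (monR_app chevE7 0 114 6 (monR_app chevE7 0 108 6 (monR_app chevE7 0 102 6 (monR_app chevE7 0 96 6 (monR_app chevE7 0 90 6 (monR_app chevE7 0 84 6 (monR_app chevE7 0 78 6 (monR_app chevE7 0 72 6 (monR_app chevE7 0 66 6 (monR_app chevE7 0 60 6 (monR_app chevE7 0 54 6 (monR_app chevE7 0 48 6 (monR_app chevE7 0 42 6 (monR_app chevE7 0 36 6 (monR_app chevE7 0 30 6 (monR_app chevE7 0 24 6 (monR_app chevE7 0 18 6 (monR_app chevE7 0 12 6 (monR_app chevE7 0 6 6 mon_E7_0 mon_E7_1) mon_E7_2) mon_E7_3) mon_E7_4) mon_E7_5) mon_E7_6) mon_E7_7) mon_E7_8) mon_E7_9) mon_E7_10) mon_E7_11) mon_E7_12) mon_E7_13) mon_E7_14) mon_E7_15) mon_E7_16) mon_E7_17) mon_E7_18) mon_E7_19) mon_E7_20)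

theorem mon_E8 : monR chevE8 0 chevE8.nroots = true := (monR_app chevE8 0 238 2 (monR_app chevE8 0 236 2 (monR_app chevE8 0 234 2 (monR_app chevE8 0 232 2 (monR_app chevE8 0 230 2 (monR_app chevE8 0 228 2 (monR_app chevE8 0 226 2 (monR_app chevE8 0 224 2 (monR_app chevE8 0 222 2 (monR_app chevE8 0 220 2 (monR_app chevE8 0 218 2 (monR_app chevE8 0 216 2 (monR_app chevE8 0 214 2 (monR_app chevE8 0 212 2 (monR_app chevE8 0 210 2 (monR_app chevE8 0 208 2 (monR_app chevE8 0 206 2 (monR_app chevE8 0 204 2 (monR_app chevE8 0 202 2 (monR_app chevE8 0 200 2 (monR_app chevE8 0 198 2 (monR_app chevE8 0 196 2 (monR_app chevE8 0 194 2 (monR_app chevE8 0 192 2 (monR_app chevE8 0 190 2 (monR_app chevE8 0 188 2 (monR_app chevE8 0 186 2 (monR_app chevE8 0 184 2 (monR_app chevE8 0 182 2 (monR_app chevE8 0 180 2 (monR_app chevE8 0 178 2 (monR_app chevE8 0 176 2 (monR_app chevE8 0 174 2 (monR_app chevE8 0 172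 2 (monR_app chevE8 0 170 2 (monR_app chevE8 0 168 2 (monR_app chevE8 0 166 2 (monR_app chevE8 0 164 2 (monR_app chevE8 0 162 2 (monR_app chevE8 0 160 2 (monR_app chevE8 0 158 2 (monR_app chevE8 0 156 2 (monR_app chevE8 0 154 2 (monR_app chevE8 0 152 2 (monR_app chevE8 0 150 2 (monR_app chevE8 0 148 2 (monR_app chevE8 0 146 2 (monR_app chevE8 0 144 2 (monR_app chevE8 0 142 2 (monR_app chevE8 0 140 2 (monR_app chevE8 0 138 2 (monR_app chevE8 0 136 2 (monR_app chevE8 0 134 2 (monR_app chevE8 0 132 2 (monR_app chevE8 0 130 2 (monR_app chevE8 0 128 2 (monR_app chevE8 0 126 2 (monR_app chevE8 0 124 2 (monR_app chevE8 0 122 2 (monR_app chevE8 0 120 2 (monR_app chevE8 0 118 2 (monR_app chevE8 0 116 2 (monR_app chevE8 0 114 2 (monR_app chevE8 0 112 2 (monR_app chevE8 0 110 2 (monR_app chevE8 0 108 2 (monR_app chevE8 0 106 2 (monR_app chevE8 0 104 2 (monR_app chevE8 0 102 2 (monR_app chevE8 0 100 2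 (monR_app chevE8 0 98 2 (monR_app chevE8 0 96 2 (monR_app chevE8 0 94 2 (monR_app chevE8 0 92 2 (monR_app chevE8 0 90 2 (monR_app chevE8 0 88 2 (monR_app chevE8 0 86 2 (monR_app chevE8 0 84 2 (monR_app chevE8 0 82 2 (monR_app chevE8 0 80 2 (monR_app chevE8 0 78 2 (monR_app chevE8 0 76 2 (monR_app chevE8 0 74 2 (monR_app chevE8 0 72 2 (monR_app chevE8 0 70 2 (monR_app chevE8 0 68 2 (monR_app chevE8 0 66 2 (monR_app chevE8 0 64 2 (monR_app chevE8 0 62 2 (monR_app chevE8 0 60 2 (monR_app chevE8 0 58 2 (monR_app chevE8 0 56 2 (monR_app chevE8 0 54 2 (monR_app chevE8 0 52 2 (monR_app chevE8 0 50 2 (monR_app chevE8 0 48 2 (monR_app chevE8 0 46 2 (monR_app chevE8 0 44 2 (monR_app chevE8 0 42 2 (monR_app chevE8 0 40 2 (monR_app chevE8 0 38 2 (monR_app chevE8 0 36 2 (monR_app chevE8 0 34 2 (monR_app chevE8 0 32 2 (monR_app chevE8 0 30 2 (monR_app chevE8 0 28 2 (monR_app chevE8 0 26 2 (monR_app chevE8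 0 24 2 (monR_app chevE8 0 22 2 (monR_app chevE8 0 20 2 (monR_app chevE8 0 18 2 (monR_app chevE8 0 16 2 (monR_app chevE8 0 14 2 (monR_app chevE8 0 12 2 (monR_app chevE8 0 10 2 (monR_app chevE8 0 8 2 (monR_app chevE8 0 6 2 (monR_app chevE8 0 4 2 (monR_app chevE8 0 2 2 mon_E8_0 mon_E8_1) mon_E8_2) mon_E8_3) mon_E8_4) mon_E8_5) mon_E8_6) mon_E8_7) mon_E8_8) mon_E8_9) mon_E8_10) mon_E8_11) mon_E8_12) mon_E8_13) mon_E8_14) mon_E8_15) mon_E8_16) mon_E8_17) mon_E8_18) mon_E8_19) mon_E8_20) mon_E8_21) mon_E8_22) mon_E8_23) mon_E8_24) mon_E8_25) mon_E8_26) mon_E8_27) mon_E8_28) mon_E8_29) mon_E8_30) mon_E8_31) mon_E8_32) mon_E8_33) mon_E8_34) mon_E8_35) mon_E8_36) mon_E8_37) mon_E8_38) mon_E8_39) mon_E8_40) mon_E8_41) mon_E8_42) mon_E8_43) mon_E8_44) mon_E8_45) mon_E8_46) mon_E8_47) mon_E8_48) mon_E8_49) mon_E8_50) mon_E8_51) mon_E8_52) mon_E8_53) mon_E8_54) mon_E8_55) mon_E8_56) mon_E8_57) mon_E8_58)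 mon_E8_59) mon_E8_60) mon_E8_61) mon_E8_62) mon_E8_63) mon_E8_64) mon_E8_65) mon_E8_66) mon_E8_67) mon_E8_68) mon_E8_69) mon_E8_70) mon_E8_71) mon_E8_72) mon_E8_73) mon_E8_74) mon_E8_75) mon_E8_76) mon_E8_77) mon_E8_78) mon_E8_79) mon_E8_80) mon_E8_81) mon_E8_82) mon_E8_83) mon_E8_84) mon_E8_85) mon_E8_86) mon_E8_87) mon_E8_88) mon_E8_89) mon_E8_90) mon_E8_91) mon_E8_92) mon_E8_93) mon_E8_94) mon_E8_95) mon_E8_96) mon_E8_97) mon_E8_98) mon_E8_99) mon_E8_100) mon_E8_101) mon_E8_102) mon_E8_103) mon_E8_104) mon_E8_105) mon_E8_106) mon_E8_107) mon_E8_108) mon_E8_109) mon_E8_110) mon_E8_111) mon_E8_112) mon_E8_113) mon_E8_114) mon_E8_115) mon_E8_116) mon_E8_117) mon_E8_118) mon_E8_119)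

theorem mon_of_mem (D : ChevalleyDatum)
    (hD : D ∈ [chevG2, chevB2, chevD4, chevF4, chevE6, chevE7, chevE8]) :
    monR D 0 D.nroots = true := by
  simp only [List.mem_cons, List.not_mem_nil, or_false] at hD
  rcases hD with rfl | rfl | rfl | rfl | rfl | rfl | rfl
  · exact mon_G2
  · exact mon_B2
  · exact mon_D4
  · exact mon_F4
  · exact mon_E6
  · exact mon_E7
  · exact mon_E8

end Cfsg.Agent.Lib.Helper2.ChevFast
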