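import Mathlib

set_option autoImplicit false

namespace Cfsg.Agent.Lib.Helper2.QuatRec

noncomputable def pwHom {G : Type*} [Group G] (m : ℕ) (α : G) (h : α ^ m = 1) :
    ZMod m →+ Additive G :=
  ZMod.lift m ⟨zmultiplesHom (Additive G) (Additive.ofMul α), by
    rw [zmultiplesHom_apply, natCast_zsmul, ← ofMul_pow, h, ofMul_one]⟩

noncomputable def qp {G : Type*} [Group G] (m : ℕ) (α : G) (h : α ^ m = 1) (i : ZMod m) : G :=
  Additive.toMul (pwHom m α h i)

theorem qp_add {G : Type*} [Group G] (m : ℕ) (α : G) (h : α ^ m = 1) (i j : ZMod m) :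
    qp m α h (i + j) = qp m α h i * qp m α h j := by
  unfold qp
  rw [map_add, toMul_add]

theorem qp_neg {G : Type*} [Group G] (m : ℕ) (α : G) (h : α ^ m = 1) (i : ZMod m) :
    qp m α h (-i) = (qp m α h i)⁻¹ := by
  unfold qp
  rw [map_neg, toMul_neg]

theorem qp_intCast {G : Type*} [Group G] (m : ℕ) (α : G) (h : α ^ m = 1) (k : ℤ) :
    qp m α h (k : ZMod m) = α ^ k := by
  unfold qp pwHom
  rw [ZMod.lift_coe]
  show Additive.toMul ((zmultiplesHom (Additive G)) (Additive.ofMul α) k) = α ^ k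
  rw [zmultiplesHom_apply, toMul_zsmul, toMul_ofMul]

theorem qp_natCast {G : Type*} [Group G] (m : ℕ) (α : G) (h : α ^ m = 1) (k : ℕ) :
    qp m α h (k : ZMod m) = α ^ k := by
  have h1 := qp_intCast m α h (k : ℤ)
  rw [Int.cast_natCast, zpow_natCast] at h1
  exact h1

theorem qp_eq_zpow {G : Type*} [Group G] (m : ℕ) (α : G) (h : α ^ m = 1) (i : ZMod m) :
    ∃ k : ℤ, qp m α h i = α ^ k := by
  refine ⟨(i.cast : ℤ), ?_⟩
  rw [← qp_intCast m α h, ZMod.intCast_zmod_cast]

theorem qp_swap {G : Type*} [Group G] (m : ℕ) (α β : G) (h : α ^ m = 1)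
    (hc : β * α * β⁻¹ = α⁻¹) (i : ZMod m) :
    qp m α h i * β = β * (qp m α h i)⁻¹ := by
  obtain ⟨k, hk⟩ := qp_eq_zpow m α h i
  rw [hk]
  have h1 : β * α ^ k * β⁻¹ = (α ^ k)⁻¹ := by
    rw [← conj_zpow, hc, inv_zpow]
  have h2 : β * (α ^ k)⁻¹ * β⁻¹ = α ^ k := by
    have h3 : β * (α ^ k)⁻¹ * β⁻¹ = (β * α ^ k * β⁻¹)⁻¹ := by group
    rw [h3, h1, inv_inv]
  calc α ^ k * β = (β * (α ^ k)⁻¹ * β⁻¹) * β := by rw [h2]
    _ = β * (α ^ k)⁻¹ := by group

noncomputable def quatHom {G : Type*} [Group G] (n : ℕ) (α β : G) (h : α ^ (2 * n) = 1)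
    (hb : β * β = α ^ n) (hc : β * α * β⁻¹ = α⁻¹) : QuaternionGroup n →* G :=
  MonoidHom.mk' (fun x => match x with
    | QuaternionGroup.a i => qp (2 * n) α h i
    | QuaternionGroup.xa i => β * qp (2 * n) α h i) (by
    rintro (i | i) (j | j)
    · show qp (2 * n) α h (i + j) = qp (2 * n) α h i * qp (2 * n) α h j
      exact qp_add _ _ _ _ _
    · show β * qp (2 * n) α h (j - i) = qp (2 * n) α h i * (β * qp (2 * n) α h j)
      rw [← mul_assoc, qp_swap (2 * n) α β h hc i, sub_eq_neg_add, qp_add, qp_neg, mul_assoc]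
    · show β * qp (2 * n) α h (i + j) = β * qp (2 * n) α h i * qp (2 * n) α h j
      rw [qp_add, mul_assoc]
    · show qp (2 * n) α h ((n : ZMod (2 * n)) + j - i) =
        β * qp (2 * n) α h i * (β * qp (2 * n) α h j)
      have e : (n : ZMod (2 * n)) + j - i = (n : ZMod (2 * n)) + (-i + j) := by ring
      rw [e, qp_add, qp_add, qp_neg, qp_natCast, ← hb]
      calc β * β * ((qp (2 * n) α h i)⁻¹ * qp (2 * n) α h j)
          = β * (β * (qp (2 * n) α h i)⁻¹) * qp (2 * n) α h j := by group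
        _ = β * (qp (2 * n) α h i * β) * qp (2 * n) α h j := by
            rw [qp_swap (2 * n) α β h hc i]
        _ = β * qp (2 * n) α h i * (β * qp (2 * n) α h j) := by group)

theorem quatHom_a {G : Type*} [Group G] (n : ℕ) (α β : G) (h : α ^ (2 * n) = 1)
    (hb : β * β = α ^ n) (hc : β * α * β⁻¹ = α⁻¹) (i : ZMod (2 * n)) :
    quatHom n α β h hb hc (QuaternionGroup.a i) = qp (2 * n) α h i := rfl

theorem quatHom_xa {G : Type*} [Group G] (n : ℕ) (α β : G) (h : α ^ (2 * n) = 1)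
    (hb : β * β = α ^ n) (hc : β * α * β⁻¹ = α⁻¹) (i : ZMod (2 * n)) :
    quatHom n α β h hb hc (QuaternionGroup.xa i) = β * qp (2 * n) α h i := rfl

theorem quat_recognize {G : Type*} [Group G] [Finite G] (n : ℕ) [NeZero n] (α β : G)
    (hcard : Nat.card G = 4 * n) (ho : orderOf α = 2 * n) (hb : β * β = α ^ n)
    (hc : β * α * β⁻¹ = α⁻¹) (hnot : β ∉ Subgroup.zpowers α) :
    Nonempty (G ≃* QuaternionGroup n) := by
  have h : α ^ (2 * n) = 1 := by rw [← ho]; exact pow_orderOf_eq_one α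
  haveI : NeZero (2 * n) := ⟨by have := NeZero.ne n; omega⟩
  have hinj : Function.Injective (quatHom n α β h hb hc) := by
    rw [injective_iff_map_eq_one]
    rintro (i | i) hx
    · rw [quatHom_a] at hx
      have h1 : qp (2 * n) α h i = α ^ i.val := by
        rw [← qp_natCast (2 * n) α h, ZMod.natCast_zmod_val]
      rw [h1] at hx
      have h2 := orderOf_dvd_of_pow_eq_one hx
      rw [ho] at h2
      have h3 : i.val < 2 * n := ZMod.val_lt i
      have h4 : i.val = 0 := Nat.eq_zero_of_dvd_of_lt h2 h3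
      rw [ZMod.val_eq_zero] at h4
      rw [h4, QuaternionGroup.a_zero]
    · exfalso
      rw [quatHom_xa] at hx
      apply hnot
      obtain ⟨k, hk⟩ := qp_eq_zpow (2 * n) α h i
      rw [hk] at hx
      have h5 : β = (α ^ k)⁻¹ := eq_inv_of_mul_eq_one_left hx
      rw [h5]
      exact Subgroup.inv_mem _ (Subgroup.zpow_mem _ (Subgroup.mem_zpowers α) k)
  have hbij : Function.Bijective (quatHom n α β h hb hc) := by
    apply hinj.bijective_of_nat_card_le
    rw [hcard, Nat.card_eq_fintype_card, QuaternionGroup.card]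
  exact ⟨(MulEquiv.ofBijective _ hbij).symm⟩

end Cfsg.Agent.Lib.Helper2.QuatRec
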