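import Mathlib
import Cfsg.Prelude.Def_TwoFusion

set_option autoImplicit false

namespace Cfsg.Agent.Lib.Helper2.Isolated

variable {G : Type*} [Group G]

theorem mul_self_of_orderOf_two {z : G} (hz : orderOf z = 2) : z * z = 1 := by
  have h := pow_orderOf_eq_one z
  rw [hz, pow_two] at h
  exact h

theorem inv_eq_self_of_mul_self {z : G} (hz : z * z = 1) : z⁻¹ = z :=
  inv_eq_of_mul_eq_one_left hz

theorem conj_mul_self {z : G} (hz : z * z = 1) (g : G) : (g * z * g⁻¹) * (g * z * g⁻¹) = 1 := by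
  have : (g * z * g⁻¹) * (g * z * g⁻¹) = g * (z * z) * g⁻¹ := by group
  rw [this, hz]; group

theorem inverts_pow {z r : G} (h : z * r * z⁻¹ = r⁻¹) (i : ℕ) : z * r ^ i * z⁻¹ = (r ^ i)⁻¹ := by
  rw [← conj_pow, h, inv_pow]

theorem conj_by_inverted {z k : G} (h : z * k * z⁻¹ = k⁻¹) : k * z * k⁻¹ = k * k * z := by
  have h1 : z * k⁻¹ * z⁻¹ = k := by
    have : z * k⁻¹ * z⁻¹ = (z * k * z⁻¹)⁻¹ := by group
    rw [this, h, inv_inv]
  have h2 : k * z * k⁻¹ = k * (z * k⁻¹ * z⁻¹) * z := by group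
  rw [h2, h1]

theorem eq_of_sq_eq_of_odd {a b : G} (ha : Odd (orderOf a)) (hb : Odd (orderOf b))
    (h : a * a = b * b) : a = b := by
  obtain ⟨m, hm⟩ := ha.mul hb
  have h1 : a ^ (orderOf a * orderOf b + 1) = a := by
    rw [pow_succ, pow_mul, pow_orderOf_eq_one, one_pow, one_mul]
  have h2 : b ^ (orderOf a * orderOf b + 1) = b := by
    rw [pow_succ, mul_comm, pow_mul, pow_orderOf_eq_one, one_pow, one_mul]
  have h3 : orderOf a * orderOf b + 1 = 2 * (m + 1) := by omega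
  rw [h3, pow_mul, pow_two] at h1 h2
  rw [← h1, ← h2, h]

theorem mem_of_sq_mem_of_odd {a : G} (ha : Odd (orderOf a)) (H : Subgroup G) (h : a * a ∈ H) :
    a ∈ H := by
  obtain ⟨m, hm⟩ := ha
  have h1 : a ^ (orderOf a + 1) = a := by
    rw [pow_succ, pow_orderOf_eq_one, one_mul]
  have h3 : orderOf a + 1 = 2 * (m + 1) := by omega
  rw [h3, pow_mul, pow_two] at h1
  rw [← h1]
  exact H.pow_mem h _

theorem prod_odd [Finite G] (z : G) (hz : Cfsg.IsIsolatedInvolution z) (g : G) :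
    Odd (orderOf (g * z * g⁻¹ * z)) := by
  obtain ⟨hz2, hiso⟩ := hz
  have hzz : z * z = 1 := mul_self_of_orderOf_two hz2
  have hzi : z⁻¹ = z := inv_eq_self_of_mul_self hzz
  have hss : (g * z * g⁻¹) * (g * z * g⁻¹) = 1 := conj_mul_self hzz g
  have hsi : (g * z * g⁻¹)⁻¹ = g * z * g⁻¹ := inv_eq_self_of_mul_self hss
  generalize hs : g * z * g⁻¹ = s at hss hsi
  have hri : (s * z)⁻¹ = z * s := by rw [mul_inv_rev, hzi, hsi]
  have hzr : z * (s * z) * z⁻¹ = (s * z)⁻¹ := by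
    rw [hri]; group
  have hsr : s * (s * z) * s⁻¹ = (s * z)⁻¹ := by
    rw [hri, hsi]
    have : s * (s * z) * s = (s * s) * z * s := by group
    rw [this, hss, one_mul]
  by_contra hodd
  rw [Nat.not_odd_iff_even] at hodd
  obtain ⟨m, hm⟩ := hodd
  have hpos : 0 < orderOf (s * z) := orderOf_pos _
  have hm0 : m ≠ 0 := by omega
  have hu1 : (s * z) ^ m ≠ 1 := pow_ne_one_of_lt_orderOf hm0 (by omega)
  have huu : (s * z) ^ m * (s * z) ^ m = 1 := by
    rw [← pow_add, ← hm, pow_orderOf_eq_one]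
  have hui : ((s * z) ^ m)⁻¹ = (s * z) ^ m := inv_eq_self_of_mul_self huu
  have hzu : z * (s * z) ^ m * z⁻¹ = (s * z) ^ m := by
    rw [inverts_pow hzr, hui]
  have hcomm : Commute z ((s * z) ^ m * z) := by
    have e1 : z * (s * z) ^ m = (s * z) ^ m * z := by
      have : z * (s * z) ^ m = (z * (s * z) ^ m * z⁻¹) * z := by group
      rw [this, hzu]
    show z * ((s * z) ^ m * z) = (s * z) ^ m * z * z
    rw [← mul_assoc, e1]
  have hconj : ∃ c : G, c * z * c⁻¹ = (s * z) ^ m * z := by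
    rcases Nat.even_or_odd' m with ⟨k, hk | hk⟩
    · refine ⟨(s * z) ^ k, ?_⟩
      rw [conj_by_inverted (inverts_pow hzr k), ← pow_add, hk, two_mul]
    · refine ⟨(s * z) ^ k * g, ?_⟩
      have e1 : (s * z) ^ k * g * z * ((s * z) ^ k * g)⁻¹ =
          (s * z) ^ k * (g * z * g⁻¹) * ((s * z) ^ k)⁻¹ := by group
      rw [e1, hs, conj_by_inverted (inverts_pow hsr k), ← pow_add, hk]
      have e2 : (s * z) ^ (2 * k + 1) * z = (s * z) ^ (k + k) * s * (z * z) := by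
        rw [two_mul, pow_succ]; group
      rw [e2, hzz, mul_one]
  obtain ⟨c, hc⟩ := hconj
  have h1 := hiso c (by rw [hc]; exact hcomm)
  rw [hc] at h1
  exact hu1 (by simpa using h1)

theorem exists_conj [Finite G] (z : G) (hz : Cfsg.IsIsolatedInvolution z) (g : G) :
    ∃ k : G, k ∈ Subgroup.zpowers (g * z * g⁻¹ * z) ∧ Odd (orderOf k) ∧ z * k * z⁻¹ = k⁻¹ ∧
      k * z * k⁻¹ = g * z * g⁻¹ := by
  have hodd := prod_odd z hz g
  obtain ⟨hz2, hiso⟩ := hz
  have hzz : z * z = 1 := mul_self_of_orderOf_two hz2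
  have hzi : z⁻¹ = z := inv_eq_self_of_mul_self hzz
  have hss : (g * z * g⁻¹) * (g * z * g⁻¹) = 1 := conj_mul_self hzz g
  have hsi : (g * z * g⁻¹)⁻¹ = g * z * g⁻¹ := inv_eq_self_of_mul_self hss
  generalize hs : g * z * g⁻¹ = s at hss hsi hodd ⊢
  have hri : (s * z)⁻¹ = z * s := by rw [mul_inv_rev, hzi, hsi]
  have hzr : z * (s * z) * z⁻¹ = (s * z)⁻¹ := by
    rw [hri]; group
  obtain ⟨j, hj⟩ := hodd
  refine ⟨(s * z) ^ (j + 1), Subgroup.pow_mem _ (Subgroup.mem_zpowers _) _, ?_, inverts_pow hzr _, ?_⟩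
  · exact Odd.of_dvd_nat ⟨j, hj⟩ (orderOf_pow_dvd _)
  · rw [conj_by_inverted (inverts_pow hzr _), ← pow_add]
    have e1 : j + 1 + (j + 1) = orderOf (s * z) + 1 := by omega
    rw [e1, pow_succ, pow_orderOf_eq_one, one_mul, mul_assoc, hzz, mul_one]

end Cfsg.Agent.Lib.Helper2.Isolated
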