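import Mathlib

set_option autoImplicit false

namespace Cfsg.Agent.Lib.Helper2.NoSimple1188

open Subgroup

theorem main {G : Type*} [Group G] [Finite G] [IsSimpleGroup G] : Nat.card G ≠ 1188 := by
  intro hG
  haveI : Fact (Nat.Prime 11) := ⟨by norm_num⟩
  obtain ⟨P⟩ : Nonempty (Sylow 11 G) := inferInstance
  have hPcard : Nat.card P = 11 := by
    rw [Sylow.card_eq_multiplicity, hG]
    have h1 : (1188 : ℕ).factorization 11 = 1 := by
      have e : (1188 : ℕ) = 11 ^ 1 * 108 := by norm_num
      rw [e, Nat.factorization_mul (by norm_num) (by norm_num), Nat.Prime.factorization_pow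
        (by norm_num)]
      simp
      rw [Nat.factorization_eq_zero_of_not_dvd (by norm_num)]
    rw [h1, pow_one]
  have hcyc : IsCyclic P := isCyclic_of_prime_card hPcard
  have hn1 : Nat.card (Sylow 11 G) ≡ 1 [MOD 11] := card_sylow_modEq_one 11 G
  have hidx : (P : Subgroup G).index = 108 := by
    have h := Subgroup.card_mul_index (P : Subgroup G)
    rw [hPcard, hG] at h
    omega
  have hn2 : Nat.card (Sylow 11 G) ∣ 108 := by
    rw [← hidx]
    exact Sylow.card_dvd_index P
  have hn3 : Nat.card (Sylow 11 G) = (Subgroup.normalizer (P : Set G)).index :=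
    Sylow.card_eq_index_normalizer P
  have hn : Nat.card (Sylow 11 G) = 1 ∨ Nat.card (Sylow 11 G) = 12 := by
    have hle : Nat.card (Sylow 11 G) ≤ 108 := Nat.le_of_dvd (by norm_num) hn2
    have hpos : 0 < Nat.card (Sylow 11 G) := Nat.card_pos
    generalize Nat.card (Sylow 11 G) = n at hn1 hn2 hle hpos
    unfold Nat.ModEq at hn1
    interval_cases n <;> first | omega | (exfalso; revert hn2; decide)
  rcases hn with h1 | h12
  · have hnorm : (P : Subgroup G).Normal := by
      rw [hn3, Subgroup.index_eq_one] at h1
      exact Subgroup.normalizer_eq_top_iff.1 h1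
    rcases hnorm.eq_bot_or_eq_top with h | h
    · have h2 := hPcard
      rw [h, Subgroup.card_bot] at h2
      omega
    · have h2 := hPcard
      rw [h, Subgroup.card_top, hG] at h2
      omega
  · have hN : Nat.card (Subgroup.normalizer (P : Set G)) = 99 := by
      have h := Subgroup.card_mul_index (Subgroup.normalizer (P : Set G))
      rw [← hn3, h12, hG] at h
      omega
    have hNC : Subgroup.normalizer (P : Set G) ≤ Subgroup.centralizer (P : Set G) := by
      have key := Subgroup.card_dvd_of_injective _
        (QuotientGroup.kerLift_injective (P : Subgroup G).normalizerMonoidHom)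
      rw [Subgroup.normalizerMonoidHom_ker, ← Subgroup.index, ← Subgroup.relIndex] at key
      refine Subgroup.relIndex_eq_one.mp (Nat.eq_one_of_dvd_coprimes ?_ dvd_rfl key)
      rw [hcyc.card_mulAut, hPcard]
      apply Nat.Coprime.coprime_dvd_left (Subgroup.relIndex_dvd_card _ _)
      rw [hN]
      decide
    have hcompl := MonoidHom.ker_transferSylow_isComplement' P hNC
    have hK := hcompl.card_mul
    rcases (MonoidHom.normal_ker (MonoidHom.transferSylow P hNC)).eq_bot_or_eq_top with h | h
    · rw [h, Subgroup.card_bot, hPcard, hG] at hK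
      omega
    · rw [h, Subgroup.card_top, hG, hPcard] at hK
      omega

end Cfsg.Agent.Lib.Helper2.NoSimple1188
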