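import Mathlib

set_option autoImplicit false

namespace Cfsg.Agent.Lib.Helper2.O4m

structure M16 where
  m00 : ℕ
  m01 : ℕ
  m02 : ℕ
  m03 : ℕ
  m10 : ℕ
  m11 : ℕ
  m12 : ℕ
  m13 : ℕ
  m20 : ℕ
  m21 : ℕ
  m22 : ℕ
  m23 : ℕ
  m30 : ℕ
  m31 : ℕ
  m32 : ℕ
  m33 : ℕ
deriving DecidableEq

def d4 (a b c d e f g h : ℕ) : ℕ :=
  Nat.mod (Nat.add (Nat.add (Nat.add (Nat.mul a b) (Nat.mul c d)) (Nat.mul e f)) (Nat.mul g h)) 2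

def mmN (s t : M16) : M16 :=
  ⟨d4 s.m00 t.m00 s.m01 t.m10 s.m02 t.m20 s.m03 t.m30,
   d4 s.m00 t.m01 s.m01 t.m11 s.m02 t.m21 s.m03 t.m31,
   d4 s.m00 t.m02 s.m01 t.m12 s.m02 t.m22 s.m03 t.m32,
   d4 s.m00 t.m03 s.m01 t.m13 s.m02 t.m23 s.m03 t.m33,
   d4 s.m10 t.m00 s.m11 t.m10 s.m12 t.m20 s.m13 t.m30,
   d4 s.m10 t.m01 s.m11 t.m11 s.m12 t.m21 s.m13 t.m31,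
   d4 s.m10 t.m02 s.m11 t.m12 s.m12 t.m22 s.m13 t.m32,
   d4 s.m10 t.m03 s.m11 t.m13 s.m12 t.m23 s.m13 t.m33,
   d4 s.m20 t.m00 s.m21 t.m10 s.m22 t.m20 s.m23 t.m30,
   d4 s.m20 t.m01 s.m21 t.m11 s.m22 t.m21 s.m23 t.m31,
   d4 s.m20 t.m02 s.m21 t.m12 s.m22 t.m22 s.m23 t.m32,
   d4 s.m20 t.m03 s.m21 t.m13 s.m22 t.m23 s.m23 t.m33,
   d4 s.m30 t.m00 s.m31 t.m10 s.m32 t.m20 s.m33 t.m30,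
   d4 s.m30 t.m01 s.m31 t.m11 s.m32 t.m21 s.m33 t.m31,
   d4 s.m30 t.m02 s.m31 t.m12 s.m32 t.m22 s.m33 t.m32,
   d4 s.m30 t.m03 s.m31 t.m13 s.m32 t.m23 s.m33 t.m33⟩

def qN (x y z t : ℕ) : ℕ :=
  Nat.mod (Nat.add (Nat.add (Nat.add (Nat.mul x y) (Nat.mul z z)) (Nat.mul z t)) (Nat.mul t t)) 2

def r0 (s : M16) (x y z t : ℕ) : ℕ := d4 s.m00 x s.m01 y s.m02 z s.m03 t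
def r1 (s : M16) (x y z t : ℕ) : ℕ := d4 s.m10 x s.m11 y s.m12 z s.m13 t
def r2 (s : M16) (x y z t : ℕ) : ℕ := d4 s.m20 x s.m21 y s.m22 z s.m23 t
def r3 (s : M16) (x y z t : ℕ) : ℕ := d4 s.m30 x s.m31 y s.m32 z s.m33 t

def isoV (s : M16) (x y z t : ℕ) : Bool :=
  Nat.beq (qN (r0 s x y z t) (r1 s x y z t) (r2 s x y z t) (r3 s x y z t)) (qN x y z t)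

def D2 : List ℕ := [0, 1]

def isoChk (s : M16) : Bool :=
  D2.all fun x => D2.all fun y => D2.all fun z => D2.all fun t => isoV s x y z t

def eqM (s t : M16) : Bool :=
  Nat.beq s.m00 t.m00 &&
    Nat.beq s.m01 t.m01 &&
    Nat.beq s.m02 t.m02 &&
    Nat.beq s.m03 t.m03 &&
    Nat.beq s.m10 t.m10 &&
    Nat.beq s.m11 t.m11 &&
    Nat.beq s.m12 t.m12 &&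
    Nat.beq s.m13 t.m13 &&
    Nat.beq s.m20 t.m20 &&
    Nat.beq s.m21 t.m21 &&
    Nat.beq s.m22 t.m22 &&
    Nat.beq s.m23 t.m23 &&
    Nat.beq s.m30 t.m30 &&
    Nat.beq s.m31 t.m31 &&
    Nat.beq s.m32 t.m32 &&
    Nat.beq s.m33 t.m33

def I16 : M16 := ⟨1, 0, 0, 0, 0, 1, 0, 0, 0, 0, 1, 0, 0, 0, 0, 1⟩

def L120 : List M16 := [
  ⟨0, 1, 0, 0, 1, 0, 0, 0, 0, 0, 0, 1, 0, 0, 1, 0⟩, ⟨0, 1, 0, 0, 1, 0, 0, 0, 0, 0, 0, 1, 0, 0, 1, 1⟩,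
  ⟨0, 1, 0, 0, 1, 0, 0, 0, 0, 0, 1, 0, 0, 0, 0, 1⟩, ⟨0, 1, 0, 0, 1, 0, 0, 0, 0, 0, 1, 0, 0, 0, 1, 1⟩,
  ⟨0, 1, 0, 0, 1, 0, 0, 0, 0, 0, 1, 1, 0, 0, 0, 1⟩, ⟨0, 1, 0, 0, 1, 0, 0, 0, 0, 0, 1, 1, 0, 0, 1, 0⟩,
  ⟨0, 1, 0, 0, 1, 1, 0, 1, 0, 0, 0, 1, 0, 1, 1, 0⟩, ⟨0, 1, 0, 0, 1, 1, 0, 1, 0, 0, 0, 1, 0, 1, 1, 1⟩,
  ⟨0, 1, 0, 0, 1, 1, 0, 1, 0, 1, 1, 0, 0, 0, 0, 1⟩, ⟨0, 1, 0, 0, 1, 1, 0, 1, 0, 1, 1, 0, 0, 1, 1, 1⟩,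
  ⟨0, 1, 0, 0, 1, 1, 0, 1, 0, 1, 1, 1, 0, 0, 0, 1⟩, ⟨0, 1, 0, 0, 1, 1, 0, 1, 0, 1, 1, 1, 0, 1, 1, 0⟩,
  ⟨0, 1, 0, 0, 1, 1, 1, 0, 0, 0, 1, 0, 0, 1, 0, 1⟩, ⟨0, 1, 0, 0, 1, 1, 1, 0, 0, 0, 1, 0, 0, 1, 1, 1⟩,
  ⟨0, 1, 0, 0, 1, 1, 1, 0, 0, 1, 0, 1, 0, 0, 1, 0⟩, ⟨0, 1, 0, 0, 1, 1, 1, 0, 0, 1, 0, 1, 0, 1, 1, 1⟩,
  ⟨0, 1, 0, 0, 1, 1, 1, 0, 0, 1, 1, 1, 0, 0, 1, 0⟩, ⟨0, 1, 0, 0, 1, 1, 1, 0, 0, 1, 1, 1, 0, 1, 0, 1⟩,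
  ⟨0, 1, 0, 0, 1, 1, 1, 1, 0, 0, 1, 1, 0, 1, 0, 1⟩, ⟨0, 1, 0, 0, 1, 1, 1, 1, 0, 0, 1, 1, 0, 1, 1, 0⟩,
  ⟨0, 1, 0, 0, 1, 1, 1, 1, 0, 1, 0, 1, 0, 0, 1, 1⟩, ⟨0, 1, 0, 0, 1, 1, 1, 1, 0, 1, 0, 1, 0, 1, 1, 0⟩,
  ⟨0, 1, 0, 0, 1, 1, 1, 1, 0, 1, 1, 0, 0, 0, 1, 1⟩, ⟨0, 1, 0, 0, 1, 1, 1, 1, 0, 1, 1, 0, 0, 1, 0, 1⟩,
  ⟨1, 0, 0, 0, 0, 1, 0, 0, 0, 0, 0, 1, 0, 0, 1, 0⟩, ⟨1, 0, 0, 0, 0, 1, 0, 0, 0, 0, 0, 1, 0, 0, 1, 1⟩,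
  ⟨1, 0, 0, 0, 0, 1, 0, 0, 0, 0, 1, 0, 0, 0, 0, 1⟩, ⟨1, 0, 0, 0, 0, 1, 0, 0, 0, 0, 1, 0, 0, 0, 1, 1⟩,
  ⟨1, 0, 0, 0, 0, 1, 0, 0, 0, 0, 1, 1, 0, 0, 0, 1⟩, ⟨1, 0, 0, 0, 0, 1, 0, 0, 0, 0, 1, 1, 0, 0, 1, 0⟩,
  ⟨1, 0, 0, 0, 1, 1, 0, 1, 0, 0, 0, 1, 1, 0, 1, 0⟩, ⟨1, 0, 0, 0, 1, 1, 0, 1, 0, 0, 0, 1, 1, 0, 1, 1⟩,
  ⟨1, 0, 0, 0, 1, 1, 0, 1, 1, 0, 1, 0, 0, 0, 0, 1⟩, ⟨1, 0, 0, 0, 1, 1, 0, 1, 1, 0, 1, 0, 1, 0, 1, 1⟩,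
  ⟨1, 0, 0, 0, 1, 1, 0, 1, 1, 0, 1, 1, 0, 0, 0, 1⟩, ⟨1, 0, 0, 0, 1, 1, 0, 1, 1, 0, 1, 1, 1, 0, 1, 0⟩,
  ⟨1, 0, 0, 0, 1, 1, 1, 0, 0, 0, 1, 0, 1, 0, 0, 1⟩, ⟨1, 0, 0, 0, 1, 1, 1, 0, 0, 0, 1, 0, 1, 0, 1, 1⟩,
  ⟨1, 0, 0, 0, 1, 1, 1, 0, 1, 0, 0, 1, 0, 0, 1, 0⟩, ⟨1, 0, 0, 0, 1, 1, 1, 0, 1, 0, 0, 1, 1, 0, 1, 1⟩,
  ⟨1, 0, 0, 0, 1, 1, 1, 0, 1, 0, 1, 1, 0, 0, 1, 0⟩, ⟨1, 0, 0, 0, 1, 1, 1, 0, 1, 0, 1, 1, 1, 0, 0, 1⟩,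
  ⟨1, 0, 0, 0, 1, 1, 1, 1, 0, 0, 1, 1, 1, 0, 0, 1⟩, ⟨1, 0, 0, 0, 1, 1, 1, 1, 0, 0, 1, 1, 1, 0, 1, 0⟩,
  ⟨1, 0, 0, 0, 1, 1, 1, 1, 1, 0, 0, 1, 0, 0, 1, 1⟩, ⟨1, 0, 0, 0, 1, 1, 1, 1, 1, 0, 0, 1, 1, 0, 1, 0⟩,
  ⟨1, 0, 0, 0, 1, 1, 1, 1, 1, 0, 1, 0, 0, 0, 1, 1⟩, ⟨1, 0, 0, 0, 1, 1, 1, 1, 1, 0, 1, 0, 1, 0, 0, 1⟩,
  ⟨1, 1, 0, 1, 0, 1, 0, 0, 0, 0, 0, 1, 0, 1, 1, 0⟩, ⟨1, 1, 0, 1, 0, 1, 0, 0, 0, 0, 0, 1, 0, 1, 1, 1⟩,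
  ⟨1, 1, 0, 1, 0, 1, 0, 0, 0, 1, 1, 0, 0, 0, 0, 1⟩, ⟨1, 1, 0, 1, 0, 1, 0, 0, 0, 1, 1, 0, 0, 1, 1, 1⟩,
  ⟨1, 1, 0, 1, 0, 1, 0, 0, 0, 1, 1, 1, 0, 0, 0, 1⟩, ⟨1, 1, 0, 1, 0, 1, 0, 0, 0, 1, 1, 1, 0, 1, 1, 0⟩,
  ⟨1, 1, 0, 1, 1, 0, 0, 0, 0, 0, 0, 1, 1, 0, 1, 0⟩, ⟨1, 1, 0, 1, 1, 0, 0, 0, 0, 0, 0, 1, 1, 0, 1, 1⟩,
  ⟨1, 1, 0, 1, 1, 0, 0, 0, 1, 0, 1, 0, 0, 0, 0, 1⟩, ⟨1, 1, 0, 1, 1, 0, 0, 0, 1, 0, 1, 0, 1, 0, 1, 1⟩,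
  ⟨1, 1, 0, 1, 1, 0, 0, 0, 1, 0, 1, 1, 0, 0, 0, 1⟩, ⟨1, 1, 0, 1, 1, 0, 0, 0, 1, 0, 1, 1, 1, 0, 1, 0⟩,
  ⟨1, 1, 0, 1, 1, 1, 1, 0, 0, 1, 1, 1, 1, 0, 1, 1⟩, ⟨1, 1, 0, 1, 1, 1, 1, 0, 0, 1, 1, 1, 1, 1, 0, 0⟩,
  ⟨1, 1, 0, 1, 1, 1, 1, 0, 1, 0, 1, 1, 0, 1, 1, 1⟩, ⟨1, 1, 0, 1, 1, 1, 1, 0, 1, 0, 1, 1, 1, 1, 0, 0⟩,
  ⟨1, 1, 0, 1, 1, 1, 1, 0, 1, 1, 0, 0, 0, 1, 1, 1⟩, ⟨1, 1, 0, 1, 1, 1, 1, 0, 1, 1, 0, 0, 1, 0, 1, 1⟩,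
  ⟨1, 1, 0, 1, 1, 1, 1, 1, 0, 1, 1, 0, 1, 0, 1, 0⟩, ⟨1, 1, 0, 1, 1, 1, 1, 1, 0, 1, 1, 0, 1, 1, 0, 0⟩,
  ⟨1, 1, 0, 1, 1, 1, 1, 1, 1, 0, 1, 0, 0, 1, 1, 0⟩, ⟨1, 1, 0, 1, 1, 1, 1, 1, 1, 0, 1, 0, 1, 1, 0, 0⟩,
  ⟨1, 1, 0, 1, 1, 1, 1, 1, 1, 1, 0, 0, 0, 1, 1, 0⟩, ⟨1, 1, 0, 1, 1, 1, 1, 1, 1, 1, 0, 0, 1, 0, 1, 0⟩,
  ⟨1, 1, 1, 0, 0, 1, 0, 0, 0, 0, 1, 0, 0, 1, 0, 1⟩, ⟨1, 1, 1, 0, 0, 1, 0, 0, 0, 0, 1, 0, 0, 1, 1, 1⟩,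
  ⟨1, 1, 1, 0, 0, 1, 0, 0, 0, 1, 0, 1, 0, 0, 1, 0⟩, ⟨1, 1, 1, 0, 0, 1, 0, 0, 0, 1, 0, 1, 0, 1, 1, 1⟩,
  ⟨1, 1, 1, 0, 0, 1, 0, 0, 0, 1, 1, 1, 0, 0, 1, 0⟩, ⟨1, 1, 1, 0, 0, 1, 0, 0, 0, 1, 1, 1, 0, 1, 0, 1⟩,
  ⟨1, 1, 1, 0, 1, 0, 0, 0, 0, 0, 1, 0, 1, 0, 0, 1⟩, ⟨1, 1, 1, 0, 1, 0, 0, 0, 0, 0, 1, 0, 1, 0, 1, 1⟩,
  ⟨1, 1, 1, 0, 1, 0, 0, 0, 1, 0, 0, 1, 0, 0, 1, 0⟩, ⟨1, 1, 1, 0, 1, 0, 0, 0, 1, 0, 0, 1, 1, 0, 1, 1⟩,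
  ⟨1, 1, 1, 0, 1, 0, 0, 0, 1, 0, 1, 1, 0, 0, 1, 0⟩, ⟨1, 1, 1, 0, 1, 0, 0, 0, 1, 0, 1, 1, 1, 0, 0, 1⟩,
  ⟨1, 1, 1, 0, 1, 1, 0, 1, 0, 1, 1, 1, 1, 0, 1, 1⟩, ⟨1, 1, 1, 0, 1, 1, 0, 1, 0, 1, 1, 1, 1, 1, 0, 0⟩,
  ⟨1, 1, 1, 0, 1, 1, 0, 1, 1, 0, 1, 1, 0, 1, 1, 1⟩, ⟨1, 1, 1, 0, 1, 1, 0, 1, 1, 0, 1, 1, 1, 1, 0, 0⟩,
  ⟨1, 1, 1, 0, 1, 1, 0, 1, 1, 1, 0, 0, 0, 1, 1, 1⟩, ⟨1, 1, 1, 0, 1, 1, 0, 1, 1, 1, 0, 0, 1, 0, 1, 1⟩,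
  ⟨1, 1, 1, 0, 1, 1, 1, 1, 0, 1, 0, 1, 1, 0, 0, 1⟩, ⟨1, 1, 1, 0, 1, 1, 1, 1, 0, 1, 0, 1, 1, 1, 0, 0⟩,
  ⟨1, 1, 1, 0, 1, 1, 1, 1, 1, 0, 0, 1, 0, 1, 0, 1⟩, ⟨1, 1, 1, 0, 1, 1, 1, 1, 1, 0, 0, 1, 1, 1, 0, 0⟩,
  ⟨1, 1, 1, 0, 1, 1, 1, 1, 1, 1, 0, 0, 0, 1, 0, 1⟩, ⟨1, 1, 1, 0, 1, 1, 1, 1, 1, 1, 0, 0, 1, 0, 0, 1⟩,
  ⟨1, 1, 1, 1, 0, 1, 0, 0, 0, 0, 1, 1, 0, 1, 0, 1⟩, ⟨1, 1, 1, 1, 0, 1, 0, 0, 0, 0, 1, 1, 0, 1, 1, 0⟩,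
  ⟨1, 1, 1, 1, 0, 1, 0, 0, 0, 1, 0, 1, 0, 0, 1, 1⟩, ⟨1, 1, 1, 1, 0, 1, 0, 0, 0, 1, 0, 1, 0, 1, 1, 0⟩,
  ⟨1, 1, 1, 1, 0, 1, 0, 0, 0, 1, 1, 0, 0, 0, 1, 1⟩, ⟨1, 1, 1, 1, 0, 1, 0, 0, 0, 1, 1, 0, 0, 1, 0, 1⟩,
  ⟨1, 1, 1, 1, 1, 0, 0, 0, 0, 0, 1, 1, 1, 0, 0, 1⟩, ⟨1, 1, 1, 1, 1, 0, 0, 0, 0, 0, 1, 1, 1, 0, 1, 0⟩,
  ⟨1, 1, 1, 1, 1, 0, 0, 0, 1, 0, 0, 1, 0, 0, 1, 1⟩, ⟨1, 1, 1, 1, 1, 0, 0, 0, 1, 0, 0, 1, 1, 0, 1, 0⟩,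
  ⟨1, 1, 1, 1, 1, 0, 0, 0, 1, 0, 1, 0, 0, 0, 1, 1⟩, ⟨1, 1, 1, 1, 1, 0, 0, 0, 1, 0, 1, 0, 1, 0, 0, 1⟩,
  ⟨1, 1, 1, 1, 1, 1, 0, 1, 0, 1, 1, 0, 1, 0, 1, 0⟩, ⟨1, 1, 1, 1, 1, 1, 0, 1, 0, 1, 1, 0, 1, 1, 0, 0⟩,
  ⟨1, 1, 1, 1, 1, 1, 0, 1, 1, 0, 1, 0, 0, 1, 1, 0⟩, ⟨1, 1, 1, 1, 1, 1, 0, 1, 1, 0, 1, 0, 1, 1, 0, 0⟩,
  ⟨1, 1, 1, 1, 1, 1, 0, 1, 1, 1, 0, 0, 0, 1, 1, 0⟩, ⟨1, 1, 1, 1, 1, 1, 0, 1, 1, 1, 0, 0, 1, 0, 1, 0⟩,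
  ⟨1, 1, 1, 1, 1, 1, 1, 0, 0, 1, 0, 1, 1, 0, 0, 1⟩, ⟨1, 1, 1, 1, 1, 1, 1, 0, 0, 1, 0, 1, 1, 1, 0, 0⟩,
  ⟨1, 1, 1, 1, 1, 1, 1, 0, 1, 0, 0, 1, 0, 1, 0, 1⟩, ⟨1, 1, 1, 1, 1, 1, 1, 0, 1, 0, 0, 1, 1, 1, 0, 0⟩,
  ⟨1, 1, 1, 1, 1, 1, 1, 0, 1, 1, 0, 0, 0, 1, 0, 1⟩, ⟨1, 1, 1, 1, 1, 1, 1, 0, 1, 1, 0, 0, 1, 0, 0, 1⟩]

def memL (s : M16) : Bool := L120.any (eqM s)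

def chk (s : M16) : Bool := if isoChk s then memL s else true

def slice (a b c d : ℕ) : Bool :=
  D2.all fun e => D2.all fun f => D2.all fun g => D2.all fun h => D2.all fun i => D2.all fun j => D2.all fun k => D2.all fun l => D2.all fun m => D2.all fun n => D2.all fun o => D2.all fun p =>
    chk ⟨a, b, c, d, e, f, g, h, i, j, k, l, m, n, o, p⟩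

def sliceAll : Bool := D2.all fun a => D2.all fun b => D2.all fun c => D2.all fun d => slice a b c d

set_option maxRecDepth 1000000

theorem s_0_0_0_0 : slice 0 0 0 0 = true := by decide +kernel
theorem s_0_0_0_1 : slice 0 0 0 1 = true := by decide +kernel
theorem s_0_0_1_0 : slice 0 0 1 0 = true := by decide +kernel
theorem s_0_0_1_1 : slice 0 0 1 1 = true := by decide +kernel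
theorem s_0_1_0_0 : slice 0 1 0 0 = true := by decide +kernel
theorem s_0_1_0_1 : slice 0 1 0 1 = true := by decide +kernel
theorem s_0_1_1_0 : slice 0 1 1 0 = true := by decide +kernel
theorem s_0_1_1_1 : slice 0 1 1 1 = true := by decide +kernel
theorem s_1_0_0_0 : slice 1 0 0 0 = true := by decide +kernel
theorem s_1_0_0_1 : slice 1 0 0 1 = true := by decide +kernel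
theorem s_1_0_1_0 : slice 1 0 1 0 = true := by decide +kernel
theorem s_1_0_1_1 : slice 1 0 1 1 = true := by decide +kernel
theorem s_1_1_0_0 : slice 1 1 0 0 = true := by decide +kernel
theorem s_1_1_0_1 : slice 1 1 0 1 = true := by decide +kernel
theorem s_1_1_1_0 : slice 1 1 1 0 = true := by decide +kernel
theorem s_1_1_1_1 : slice 1 1 1 1 = true := by decide +kernel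

theorem sliceAll_true : sliceAll = true := by
  simp only [sliceAll, D2, List.all_cons, List.all_nil, Bool.and_true, Bool.and_self,
    s_0_0_0_0, s_0_0_0_1, s_0_0_1_0, s_0_0_1_1, s_0_1_0_0, s_0_1_0_1, s_0_1_1_0, s_0_1_1_1, s_1_0_0_0, s_1_0_0_1, s_1_0_1_0, s_1_0_1_1, s_1_1_0_0, s_1_1_0_1, s_1_1_1_0, s_1_1_1_1]

def red (s : M16) : Prop :=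
  s.m00 < 2 ∧ s.m01 < 2 ∧ s.m02 < 2 ∧ s.m03 < 2 ∧ s.m10 < 2 ∧ s.m11 < 2 ∧ s.m12 < 2 ∧ s.m13 < 2 ∧ s.m20 < 2 ∧ s.m21 < 2 ∧ s.m22 < 2 ∧ s.m23 < 2 ∧ s.m30 < 2 ∧ s.m31 < 2 ∧ s.m32 < 2 ∧ s.m33 < 2

instance (s : M16) : Decidable (red s) := by
  unfold red
  infer_instance

theorem mem_D2 {x : ℕ} (hx : x < 2) : x ∈ D2 := by
  unfold D2
  interval_cases x <;> simp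

theorem chk_all (s : M16) (hs : red s) : chk s = true := by
  obtain ⟨a, b, c, d, e, f, g, h, i, j, k, l, m, n, o, p⟩ := s
  obtain ⟨ha, hb, hc, hd, he, hf, hg, hh, hi, hj, hk, hl, hm, hn, ho, hp⟩ := hs
  have h1 := sliceAll_true
  unfold sliceAll at h1
  have h2 := List.all_eq_true.1 (List.all_eq_true.1 (List.all_eq_true.1 (List.all_eq_true.1 h1 a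
    (mem_D2 ha)) b (mem_D2 hb)) c (mem_D2 hc)) d (mem_D2 hd)
  unfold slice at h2
  exact (List.all_eq_true.1 (List.all_eq_true.1 (List.all_eq_true.1 (List.all_eq_true.1 (List.all_eq_true.1 (List.all_eq_true.1 (List.all_eq_true.1 (List.all_eq_true.1 (List.all_eq_true.1 (List.all_eq_true.1 (List.all_eq_true.1 (List.all_eq_true.1 h2 e (mem_D2 he)) f (mem_D2 hf)) g (mem_D2 hg)) h (mem_D2 hh)) i (mem_D2 hi)) j (mem_D2 hj)) k (mem_D2 hk)) l (mem_D2 hl)) m (mem_D2 hm)) n (mem_D2 hn)) o (mem_D2 ho)) p (mem_D2 hp))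

theorem L120_spec : ∀ s ∈ L120, red s ∧ isoChk s = true := by decide +kernel

theorem L120_nodup : L120.Nodup := by decide +kernel

theorem L120_length : L120.length = 120 := by decide +kernel

theorem L120_inv : ∀ s ∈ L120, ∃ t ∈ L120, mmN s t = I16 ∧ mmN t s = I16 := by decide +kernel

def fix4 (s : M16) : Bool :=
  Nat.beq (r0 s 1 0 0 0) 1 && Nat.beq (r1 s 1 0 0 0) 0 && Nat.beq (r2 s 1 0 0 0) 0 &&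
    Nat.beq (r3 s 1 0 0 0) 0 &&
  Nat.beq (r0 s 0 1 0 0) 0 && Nat.beq (r1 s 0 1 0 0) 1 && Nat.beq (r2 s 0 1 0 0) 0 &&
    Nat.beq (r3 s 0 1 0 0) 0 &&
  Nat.beq (r0 s 1 1 1 0) 1 && Nat.beq (r1 s 1 1 1 0) 1 && Nat.beq (r2 s 1 1 1 0) 1 &&
    Nat.beq (r3 s 1 1 1 0) 0 &&
  Nat.beq (r0 s 1 1 0 1) 1 && Nat.beq (r1 s 1 1 0 1) 1 && Nat.beq (r2 s 1 1 0 1) 0 &&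
    Nat.beq (r3 s 1 1 0 1) 1

theorem fix_spec : ∀ s ∈ L120, fix4 s = true → s = I16 := by decide +kernel

def S5 : List (ℕ × ℕ × ℕ × ℕ) :=
  [(1, 0, 0, 0), (0, 1, 0, 0), (1, 1, 1, 0), (1, 1, 0, 1), (1, 1, 1, 1)]

theorem sing_spec : ∀ x ∈ D2, ∀ y ∈ D2, ∀ z ∈ D2, ∀ t ∈ D2,
    (qN x y z t = 0 ∧ ¬ (x = 0 ∧ y = 0 ∧ z = 0 ∧ t = 0)) ↔ (x, y, z, t) ∈ S5 := by decide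

end Cfsg.Agent.Lib.Helper2.O4m
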