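import Mathlib

set_option autoImplicit false

namespace Cfsg.Agent.Lib.Helper2.PSL34

structure M9 where
  a : ℕ
  b : ℕ
  c : ℕ
  d : ℕ
  e : ℕ
  f : ℕ
  g : ℕ
  h : ℕ
  i : ℕ

def mulT (x y : ℕ) : ℕ :=
  Nat.mod (Nat.shiftRight 2625168384 (Nat.add (Nat.mul 8 x) (Nat.mul 2 y))) 4

def dot3 (a b c d e f : ℕ) : ℕ := Nat.xor (Nat.xor (mulT a b) (mulT c d)) (mulT e f)

def mmN (s t : M9) : M9 :=
  ⟨dot3 s.a t.a s.b t.d s.c t.g, dot3 s.a t.b s.b t.e s.c t.h, dot3 s.a t.c s.b t.f s.c t.i,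
   dot3 s.d t.a s.e t.d s.f t.g, dot3 s.d t.b s.e t.e s.f t.h, dot3 s.d t.c s.e t.f s.f t.i,
   dot3 s.g t.a s.h t.d s.i t.g, dot3 s.g t.b s.h t.e s.i t.h, dot3 s.g t.c s.h t.f s.i t.i⟩

def detN (s : M9) : ℕ :=
  dot3 s.a (Nat.xor (mulT s.e s.i) (mulT s.f s.h)) s.b (Nat.xor (mulT s.d s.i) (mulT s.f s.g))
    s.c (Nat.xor (mulT s.d s.h) (mulT s.e s.g))

def isScN (s : M9) : Bool :=
  Nat.beq s.b 0 && Nat.beq s.c 0 && Nat.beq s.d 0 && Nat.beq s.f 0 && Nat.beq s.g 0 &&
    Nat.beq s.h 0 && Nat.beq s.a s.e && Nat.beq s.e s.i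

def p3 (s : M9) : M9 := mmN (mmN s s) s

def p5 (s : M9) : M9 := mmN (p3 s) (mmN s s)

def p15 (s : M9) : M9 := mmN (mmN (p5 s) (p5 s)) (p5 s)

def chk (s : M9) : Bool :=
  if Nat.beq (detN s) 1 then
    if isScN (p3 s) then true
    else if isScN (p5 s) then true
    else !(isScN (p15 s))
  else true

def D : List ℕ := [0, 1, 2, 3]

def slice (a b c : ℕ) : Bool :=
  D.all fun d => D.all fun e => D.all fun f => D.all fun g => D.all fun h => D.all fun i =>
    chk ⟨a, b, c, d, e, f, g, h, i⟩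

def sliceAll : Bool := D.all fun a => D.all fun b => D.all fun c => slice a b c

theorem s_0_0_0 : slice 0 0 0 = true := by decide +kernel
theorem s_0_0_1 : slice 0 0 1 = true := by decide +kernel
theorem s_0_0_2 : slice 0 0 2 = true := by decide +kernel
theorem s_0_0_3 : slice 0 0 3 = true := by decide +kernel
theorem s_0_1_0 : slice 0 1 0 = true := by decide +kernel
theorem s_0_1_1 : slice 0 1 1 = true := by decide +kernel
theorem s_0_1_2 : slice 0 1 2 = true := by decide +kernel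
theorem s_0_1_3 : slice 0 1 3 = true := by decide +kernel
theorem s_0_2_0 : slice 0 2 0 = true := by decide +kernel
theorem s_0_2_1 : slice 0 2 1 = true := by decide +kernel
theorem s_0_2_2 : slice 0 2 2 = true := by decide +kernel
theorem s_0_2_3 : slice 0 2 3 = true := by decide +kernel
theorem s_0_3_0 : slice 0 3 0 = true := by decide +kernel
theorem s_0_3_1 : slice 0 3 1 = true := by decide +kernel
theorem s_0_3_2 : slice 0 3 2 = true := by decide +kernel
theorem s_0_3_3 : slice 0 3 3 = true := by decide +kernel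
theorem s_1_0_0 : slice 1 0 0 = true := by decide +kernel
theorem s_1_0_1 : slice 1 0 1 = true := by decide +kernel
theorem s_1_0_2 : slice 1 0 2 = true := by decide +kernel
theorem s_1_0_3 : slice 1 0 3 = true := by decide +kernel
theorem s_1_1_0 : slice 1 1 0 = true := by decide +kernel
theorem s_1_1_1 : slice 1 1 1 = true := by decide +kernel
theorem s_1_1_2 : slice 1 1 2 = true := by decide +kernel
theorem s_1_1_3 : slice 1 1 3 = true := by decide +kernel
theorem s_1_2_0 : slice 1 2 0 = true := by decide +kernel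
theorem s_1_2_1 : slice 1 2 1 = true := by decide +kernel
theorem s_1_2_2 : slice 1 2 2 = true := by decide +kernel
theorem s_1_2_3 : slice 1 2 3 = true := by decide +kernel
theorem s_1_3_0 : slice 1 3 0 = true := by decide +kernel
theorem s_1_3_1 : slice 1 3 1 = true := by decide +kernel
theorem s_1_3_2 : slice 1 3 2 = true := by decide +kernel
theorem s_1_3_3 : slice 1 3 3 = true := by decide +kernel
theorem s_2_0_0 : slice 2 0 0 = true := by decide +kernel
theorem s_2_0_1 : slice 2 0 1 = true := by decide +kernel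
theorem s_2_0_2 : slice 2 0 2 = true := by decide +kernel
theorem s_2_0_3 : slice 2 0 3 = true := by decide +kernel
theorem s_2_1_0 : slice 2 1 0 = true := by decide +kernel
theorem s_2_1_1 : slice 2 1 1 = true := by decide +kernel
theorem s_2_1_2 : slice 2 1 2 = true := by decide +kernel
theorem s_2_1_3 : slice 2 1 3 = true := by decide +kernel
theorem s_2_2_0 : slice 2 2 0 = true := by decide +kernel
theorem s_2_2_1 : slice 2 2 1 = true := by decide +kernel
theorem s_2_2_2 : slice 2 2 2 = true := by decide +kernel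
theorem s_2_2_3 : slice 2 2 3 = true := by decide +kernel
theorem s_2_3_0 : slice 2 3 0 = true := by decide +kernel
theorem s_2_3_1 : slice 2 3 1 = true := by decide +kernel
theorem s_2_3_2 : slice 2 3 2 = true := by decide +kernel
theorem s_2_3_3 : slice 2 3 3 = true := by decide +kernel
theorem s_3_0_0 : slice 3 0 0 = true := by decide +kernel
theorem s_3_0_1 : slice 3 0 1 = true := by decide +kernel
theorem s_3_0_2 : slice 3 0 2 = true := by decide +kernel
theorem s_3_0_3 : slice 3 0 3 = true := by decide +kernel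
theorem s_3_1_0 : slice 3 1 0 = true := by decide +kernel
theorem s_3_1_1 : slice 3 1 1 = true := by decide +kernel
theorem s_3_1_2 : slice 3 1 2 = true := by decide +kernel
theorem s_3_1_3 : slice 3 1 3 = true := by decide +kernel
theorem s_3_2_0 : slice 3 2 0 = true := by decide +kernel
theorem s_3_2_1 : slice 3 2 1 = true := by decide +kernel
theorem s_3_2_2 : slice 3 2 2 = true := by decide +kernel
theorem s_3_2_3 : slice 3 2 3 = true := by decide +kernel
theorem s_3_3_0 : slice 3 3 0 = true := by decide +kernel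
theorem s_3_3_1 : slice 3 3 1 = true := by decide +kernel
theorem s_3_3_2 : slice 3 3 2 = true := by decide +kernel
theorem s_3_3_3 : slice 3 3 3 = true := by decide +kernel

theorem sliceAll_true : sliceAll = true := by
  simp only [sliceAll, D, List.all_cons, List.all_nil, Bool.and_true, Bool.and_self,
    s_0_0_0, s_0_0_1, s_0_0_2, s_0_0_3, s_0_1_0, s_0_1_1, s_0_1_2, s_0_1_3, s_0_2_0, s_0_2_1, s_0_2_2, s_0_2_3, s_0_3_0, s_0_3_1, s_0_3_2, s_0_3_3, s_1_0_0, s_1_0_1, s_1_0_2, s_1_0_3, s_1_1_0, s_1_1_1, s_1_1_2, s_1_1_3, s_1_2_0, s_1_2_1, s_1_2_2, s_1_2_3, s_1_3_0, s_1_3_1, s_1_3_2, s_1_3_3, s_2_0_0, s_2_0_1, s_2_0_2, s_2_0_3, s_2_1_0, s_2_1_1, s_2_1_2, s_2_1_3, s_2_2_0, s_2_2_1, s_2_2_2, s_2_2_3, s_2_3_0, s_2_3_1, s_2_3_2, s_2_3_3, s_3_0_0, s_3_0_1, s_3_0_2, s_3_0_3, s_3_1_0, s_3_1_1, s_3_1_2, s_3_1_3, s_3_2_0, s_3_2_1, s_3_2_2, s_3_2_3, s_3_3_0, s_3_3_1, s_3_3_2, s_3_3_3]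

theorem mem_D {x : ℕ} (hx : x < 4) : x ∈ D := by
  unfold D
  interval_cases x <;> simp

def red (s : M9) : Prop :=
  s.a < 4 ∧ s.b < 4 ∧ s.c < 4 ∧ s.d < 4 ∧ s.e < 4 ∧ s.f < 4 ∧ s.g < 4 ∧ s.h < 4 ∧ s.i < 4

theorem chk_all (s : M9) (hs : red s) : chk s = true := by
  obtain ⟨a, b, c, d, e, f, g, h, i⟩ := s
  obtain ⟨ha, hb, hc, hd, he, hf, hg, hh, hi⟩ := hs
  have h1 := sliceAll_true
  unfold sliceAll at h1
  have h2 := List.all_eq_true.1 (List.all_eq_true.1 (List.all_eq_true.1 h1 a (mem_D ha)) b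
    (mem_D hb)) c (mem_D hc)
  unfold slice at h2
  exact List.all_eq_true.1 (List.all_eq_true.1 (List.all_eq_true.1 (List.all_eq_true.1
    (List.all_eq_true.1 (List.all_eq_true.1 h2 d (mem_D hd)) e (mem_D he)) f (mem_D hf)) g
    (mem_D hg)) h (mem_D hh)) i (mem_D hi)

end Cfsg.Agent.Lib.Helper2.PSL34
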