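import Mathlib
import Cfsg.Agent.Lib.Helper2.PSL34

set_option autoImplicit false

namespace Cfsg.Agent.Lib.Helper2.PSL34

def codeN (s : M9) : ℕ :=
  Nat.add s.a (Nat.mul 4 (Nat.add s.b (Nat.mul 4 (Nat.add s.c (Nat.mul 4 (Nat.add s.d (Nat.mul 4
    (Nat.add s.e (Nat.mul 4 (Nat.add s.f (Nat.mul 4 (Nat.add s.g (Nat.mul 4 (Nat.add s.h
      (Nat.mul 4 s.i)))))))))))))))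

def scaleN (z : ℕ) (s : M9) : M9 :=
  ⟨mulT z s.a, mulT z s.b, mulT z s.c, mulT z s.d, mulT z s.e, mulT z s.f, mulT z s.g, mulT z s.h,
    mulT z s.i⟩

def eqM (s t : M9) : Bool :=
  Nat.beq s.a t.a && Nat.beq s.b t.b && Nat.beq s.c t.c && Nat.beq s.d t.d && Nat.beq s.e t.e &&
    Nat.beq s.f t.f && Nat.beq s.g t.g && Nat.beq s.h t.h && Nat.beq s.i t.i

def redB (s : M9) : Bool :=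
  Nat.blt s.a 4 && Nat.blt s.b 4 && Nat.blt s.c 4 && Nat.blt s.d 4 && Nat.blt s.e 4 &&
    Nat.blt s.f 4 && Nat.blt s.g 4 && Nat.blt s.h 4 && Nat.blt s.i 4

def Jn : M9 := ⟨1, 0, 1, 0, 1, 0, 0, 0, 1⟩

def lookup (n : ℕ) : List (ℕ × M9) → M9
  | [] => ⟨0, 0, 0, 0, 0, 0, 0, 0, 0⟩
  | x :: rest => if Nat.beq x.1 n then x.2 else lookup n rest

def tbl : List (ℕ × M9) := [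
  (4368, ⟨1, 0, 0, 0, 1, 0, 1, 0, 1⟩), (5456, ⟨1, 2, 0, 0, 3, 3, 3, 0, 3⟩), (6544, ⟨1, 0, 0, 2, 1, 0, 1, 0, 1⟩),
  (7632, ⟨1, 0, 0, 3, 1, 0, 1, 0, 1⟩), (8496, ⟨1, 0, 0, 1, 2, 3, 1, 0, 3⟩), (9648, ⟨1, 0, 0, 2, 2, 3, 1, 0, 3⟩),
  (10736, ⟨1, 0, 0, 0, 2, 3, 1, 0, 3⟩), (11632, ⟨1, 0, 0, 3, 2, 3, 1, 0, 3⟩), (12576, ⟨1, 0, 0, 2, 3, 3, 1, 0, 2⟩),
  (13792, ⟨1, 1, 0, 1, 1, 3, 2, 0, 3⟩), (14688, ⟨1, 0, 0, 1, 3, 3, 1, 0, 2⟩), (15776, ⟨1, 0, 0, 3, 3, 3, 1, 0, 2⟩),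
  (17409, ⟨0, 0, 3, 3, 0, 0, 0, 3, 3⟩), (17429, ⟨0, 0, 3, 3, 3, 0, 0, 3, 3⟩), (17449, ⟨1, 0, 0, 2, 0, 3, 0, 2, 2⟩),
  (17469, ⟨1, 0, 0, 3, 1, 3, 0, 3, 3⟩), (20756, ⟨1, 0, 0, 2, 3, 2, 1, 1, 1⟩), (21569, ⟨1, 3, 0, 0, 3, 3, 3, 3, 3⟩),
  (23486, ⟨1, 0, 2, 2, 3, 0, 1, 1, 1⟩), (24299, ⟨1, 1, 0, 3, 2, 0, 1, 1, 1⟩), (24892, ⟨1, 0, 0, 0, 2, 0, 1, 3, 3⟩),
  (25729, ⟨1, 3, 0, 2, 3, 3, 1, 3, 3⟩), (27626, ⟨1, 0, 1, 0, 2, 3, 1, 3, 3⟩), (28247, ⟨0, 0, 3, 2, 3, 0, 1, 3, 3⟩),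
  (28968, ⟨3, 2, 0, 3, 3, 1, 3, 1, 1⟩), (29889, ⟨1, 3, 0, 1, 3, 3, 2, 3, 3⟩), (31574, ⟨1, 2, 0, 1, 1, 3, 1, 2, 2⟩),
  (32447, ⟨1, 0, 2, 2, 1, 2, 3, 1, 1⟩), (35841, ⟨0, 2, 0, 3, 0, 0, 0, 2, 1⟩), (35865, ⟨1, 0, 0, 3, 0, 3, 0, 2, 1⟩),
  (35885, ⟨0, 2, 0, 3, 2, 0, 0, 2, 1⟩), (35893, ⟨1, 0, 0, 2, 3, 3, 0, 1, 3⟩), (37144, ⟨2, 0, 3, 2, 2, 2, 1, 2, 1⟩),
  (38774, ⟨1, 0, 0, 0, 3, 3, 3, 1, 3⟩), (39599, ⟨1, 0, 0, 0, 2, 3, 2, 3, 2⟩), (40129, ⟨1, 2, 0, 3, 0, 0, 1, 2, 1⟩),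
  (41268, ⟨1, 0, 1, 0, 1, 0, 3, 3, 2⟩), (42926, ⟨1, 0, 0, 0, 1, 1, 3, 3, 2⟩), (43739, ⟨1, 0, 0, 2, 1, 0, 2, 2, 1⟩),
  (44097, ⟨1, 0, 2, 0, 1, 3, 3, 3, 2⟩), (45356, ⟨3, 1, 0, 3, 0, 1, 3, 2, 1⟩), (47066, ⟨1, 2, 0, 1, 2, 3, 2, 1, 3⟩),
  (47735, ⟨1, 0, 0, 3, 3, 3, 2, 1, 3⟩), (48257, ⟨3, 2, 0, 3, 0, 0, 3, 2, 1⟩), (51201, ⟨1, 1, 0, 3, 2, 3, 0, 1, 2⟩),
  (51229, ⟨1, 2, 0, 3, 0, 3, 0, 1, 2⟩), (51237, ⟨1, 0, 0, 3, 1, 3, 0, 1, 2⟩), (51257, ⟨1, 0, 0, 1, 0, 3, 0, 2, 3⟩),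
  (53532, ⟨1, 0, 0, 0, 1, 0, 1, 3, 1⟩), (54887, ⟨1, 1, 0, 0, 3, 3, 3, 2, 3⟩), (55425, ⟨1, 0, 1, 1, 2, 3, 1, 3, 1⟩),
  (57338, ⟨1, 0, 0, 1, 0, 3, 3, 2, 3⟩), (57656, ⟨1, 0, 0, 1, 0, 3, 1, 2, 3⟩), (59039, ⟨1, 2, 0, 2, 1, 3, 1, 2, 3⟩),
  (59585, ⟨2, 3, 2, 2, 1, 2, 1, 2, 3⟩), (61286, ⟨1, 0, 0, 0, 1, 3, 3, 1, 2⟩), (61732, ⟨1, 0, 0, 2, 1, 3, 1, 1, 2⟩),
  (63227, ⟨1, 0, 0, 1, 0, 3, 2, 2, 3⟩), (63553, ⟨1, 0, 3, 1, 0, 0, 2, 2, 3⟩), (65438, ⟨3, 3, 0, 3, 1, 0, 3, 3, 1⟩),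
  (65604, ⟨1, 0, 0, 1, 1, 1, 1, 1, 0⟩), (65676, ⟨1, 0, 0, 3, 2, 2, 1, 3, 0⟩), (65736, ⟨2, 2, 2, 2, 3, 2, 3, 1, 0⟩),
  (65797, ⟨1, 0, 0, 0, 1, 1, 0, 1, 0⟩), (65801, ⟨3, 2, 2, 0, 3, 2, 0, 1, 0⟩), (65805, ⟨1, 0, 0, 0, 1, 2, 0, 3, 0⟩),
  (65809, ⟨1, 0, 0, 0, 1, 0, 0, 0, 1⟩), (65813, ⟨1, 0, 0, 0, 1, 0, 0, 1, 1⟩), (65817, ⟨1, 0, 0, 0, 1, 0, 0, 2, 1⟩),
  (65821, ⟨1, 0, 0, 0, 1, 0, 0, 3, 1⟩), (65825, ⟨1, 0, 0, 0, 3, 3, 0, 0, 2⟩), (65829, ⟨1, 0, 0, 0, 1, 3, 0, 1, 2⟩),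
  (65833, ⟨3, 2, 0, 0, 3, 1, 0, 1, 1⟩), (65837, ⟨1, 0, 0, 0, 1, 1, 0, 3, 2⟩), (65841, ⟨1, 0, 0, 0, 2, 3, 0, 0, 3⟩),
  (65845, ⟨1, 0, 0, 0, 1, 2, 0, 1, 3⟩), (65849, ⟨3, 2, 1, 0, 3, 3, 0, 1, 2⟩), (65853, ⟨1, 0, 0, 0, 1, 3, 0, 3, 3⟩),
  (65857, ⟨3, 2, 2, 3, 0, 2, 2, 0, 0⟩), (65921, ⟨1, 2, 0, 3, 0, 1, 3, 0, 0⟩), (65985, ⟨1, 2, 1, 3, 0, 3, 1, 0, 0⟩),
  (66122, ⟨1, 0, 2, 2, 1, 3, 3, 2, 0⟩), (66182, ⟨1, 0, 0, 3, 1, 1, 3, 1, 0⟩), (66254, ⟨2, 3, 2, 2, 2, 2, 3, 3, 0⟩),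
  (66383, ⟨1, 0, 1, 1, 2, 2, 2, 3, 0⟩), (66443, ⟨1, 3, 0, 3, 3, 1, 3, 3, 0⟩), (66503, ⟨1, 0, 0, 2, 1, 1, 2, 1, 0⟩),
  (66644, ⟨1, 3, 0, 1, 1, 3, 2, 2, 2⟩), (66748, ⟨1, 0, 0, 2, 1, 3, 1, 3, 3⟩), (66792, ⟨1, 0, 0, 0, 0, 3, 1, 2, 2⟩),
  (66817, ⟨1, 3, 0, 3, 0, 3, 0, 0, 3⟩), (66833, ⟨1, 0, 0, 1, 1, 0, 0, 0, 1⟩), (66849, ⟨1, 1, 0, 3, 1, 3, 0, 0, 3⟩),
  (66865, ⟨1, 0, 0, 3, 2, 3, 0, 0, 3⟩), (66881, ⟨1, 2, 0, 1, 0, 3, 2, 0, 2⟩), (66945, ⟨3, 2, 3, 3, 0, 3, 3, 0, 2⟩),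
  (67009, ⟨2, 2, 0, 2, 0, 0, 1, 0, 2⟩), (67194, ⟨1, 0, 0, 0, 0, 3, 3, 2, 3⟩), (67238, ⟨1, 0, 3, 3, 1, 3, 3, 1, 2⟩),
  (67294, ⟨1, 0, 0, 1, 1, 0, 3, 3, 1⟩), (67439, ⟨1, 0, 0, 1, 2, 3, 2, 3, 2⟩), (67483, ⟨1, 0, 0, 1, 1, 0, 2, 2, 1⟩),
  (67575, ⟨1, 0, 0, 1, 3, 3, 2, 1, 3⟩), (67684, ⟨1, 0, 0, 1, 1, 3, 1, 1, 2⟩), (67740, ⟨1, 0, 0, 2, 1, 0, 1, 3, 1⟩),
  (67832, ⟨2, 1, 2, 2, 3, 2, 1, 2, 3⟩), (67841, ⟨1, 1, 0, 3, 0, 3, 0, 0, 2⟩), (67857, ⟨1, 0, 0, 2, 1, 0, 0, 0, 1⟩),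
  (67873, ⟨1, 0, 0, 3, 3, 3, 0, 0, 2⟩), (67889, ⟨1, 0, 0, 1, 2, 3, 0, 0, 3⟩), (67905, ⟨1, 3, 0, 2, 0, 0, 3, 0, 1⟩),
  (67969, ⟨3, 2, 2, 3, 0, 2, 3, 0, 3⟩), (68033, ⟨2, 2, 2, 2, 0, 2, 1, 0, 3⟩), (68186, ⟨1, 0, 0, 2, 1, 0, 3, 2, 1⟩),
  (68278, ⟨1, 0, 1, 3, 1, 2, 3, 1, 3⟩), (68334, ⟨1, 0, 0, 2, 2, 3, 3, 3, 2⟩), (68479, ⟨1, 0, 3, 1, 2, 0, 2, 3, 3⟩),
  (68523, ⟨3, 1, 2, 3, 3, 2, 3, 3, 3⟩), (68567, ⟨1, 0, 0, 2, 1, 0, 2, 1, 1⟩), (68724, ⟨3, 1, 0, 3, 3, 0, 2, 2, 1⟩),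
  (68780, ⟨1, 0, 0, 3, 2, 3, 1, 3, 2⟩), (68824, ⟨1, 0, 0, 3, 1, 0, 1, 2, 1⟩), (68865, ⟨3, 2, 0, 3, 0, 0, 0, 0, 1⟩),
  (68881, ⟨1, 0, 0, 3, 1, 0, 0, 0, 1⟩), (68897, ⟨1, 0, 0, 1, 3, 3, 0, 0, 2⟩), (68913, ⟨1, 0, 0, 2, 2, 3, 0, 0, 3⟩),
  (68929, ⟨3, 2, 0, 3, 0, 0, 2, 0, 1⟩), (68993, ⟨3, 2, 0, 3, 0, 0, 3, 0, 1⟩), (69057, ⟨3, 3, 3, 0, 0, 1, 2, 0, 2⟩),
  (69226, ⟨1, 0, 1, 2, 1, 2, 3, 2, 2⟩), (69270, ⟨1, 0, 2, 3, 1, 0, 3, 1, 1⟩), (69374, ⟨3, 0, 3, 0, 0, 1, 2, 2, 2⟩),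
  (69471, ⟨1, 0, 0, 3, 1, 0, 2, 3, 1⟩), (69563, ⟨3, 1, 0, 3, 3, 0, 3, 3, 1⟩), (69607, ⟨3, 1, 3, 0, 0, 1, 2, 1, 2⟩),
  (69889, ⟨1, 0, 1, 3, 1, 0, 1, 0, 0⟩), (69953, ⟨1, 0, 1, 3, 1, 1, 1, 0, 0⟩), (70017, ⟨1, 3, 0, 1, 1, 2, 1, 0, 0⟩),
  (70081, ⟨1, 0, 1, 3, 1, 3, 1, 0, 0⟩), (73985, ⟨2, 3, 1, 1, 3, 0, 2, 0, 0⟩), (74049, ⟨1, 0, 2, 2, 1, 3, 3, 0, 0⟩),
  (74113, ⟨1, 0, 3, 2, 2, 2, 1, 0, 0⟩), (74177, ⟨1, 1, 1, 3, 2, 3, 1, 0, 0⟩), (78081, ⟨1, 3, 2, 3, 3, 0, 1, 0, 0⟩),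
  (78145, ⟨1, 0, 2, 1, 3, 1, 1, 0, 0⟩), (78209, ⟨1, 2, 0, 2, 2, 1, 3, 0, 0⟩), (78273, ⟨1, 3, 1, 3, 3, 3, 1, 0, 0⟩),
  (82177, ⟨3, 1, 1, 1, 3, 0, 0, 1, 0⟩), (82181, ⟨1, 0, 0, 1, 1, 1, 0, 1, 0⟩), (82185, ⟨1, 0, 0, 2, 1, 3, 0, 2, 0⟩),
  (82189, ⟨1, 0, 0, 3, 2, 2, 0, 3, 0⟩), (86084, ⟨1, 0, 0, 2, 3, 1, 1, 1, 0⟩), (86273, ⟨2, 1, 1, 2, 3, 0, 1, 1, 0⟩),
  (86734, ⟨1, 0, 0, 1, 2, 2, 3, 3, 0⟩), (86923, ⟨1, 0, 3, 2, 3, 2, 1, 1, 0⟩), (90252, ⟨1, 0, 0, 0, 2, 2, 1, 3, 0⟩),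
  (90369, ⟨1, 1, 1, 0, 3, 0, 2, 1, 0⟩), (90698, ⟨0, 0, 3, 2, 3, 1, 1, 3, 0⟩), (91079, ⟨1, 0, 2, 0, 2, 3, 1, 3, 0⟩),
  (94408, ⟨1, 0, 3, 2, 1, 2, 3, 1, 0⟩), (94465, ⟨1, 1, 2, 3, 2, 0, 1, 2, 0⟩), (94854, ⟨1, 0, 0, 2, 1, 1, 3, 1, 0⟩),
  (95055, ⟨1, 0, 0, 2, 2, 2, 2, 3, 0⟩), (98561, ⟨1, 0, 3, 2, 1, 0, 0, 1, 0⟩), (98565, ⟨1, 0, 0, 2, 1, 1, 0, 1, 0⟩),
  (98569, ⟨1, 0, 0, 3, 0, 3, 0, 2, 0⟩), (98573, ⟨1, 0, 1, 2, 1, 3, 0, 1, 0⟩), (102600, ⟨1, 2, 1, 3, 0, 3, 1, 2, 0⟩),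
  (102657, ⟨2, 0, 1, 2, 2, 0, 1, 2, 0⟩), (103046, ⟨1, 0, 0, 0, 3, 1, 3, 1, 0⟩), (103247, ⟨1, 0, 1, 0, 3, 3, 3, 1, 0⟩),
  (106564, ⟨1, 0, 1, 0, 1, 3, 3, 3, 0⟩), (106753, ⟨1, 0, 2, 0, 1, 0, 3, 3, 0⟩), (107214, ⟨1, 0, 0, 0, 1, 2, 3, 3, 0⟩),
  (107403, ⟨1, 2, 0, 0, 2, 2, 1, 1, 0⟩), (110732, ⟨1, 0, 0, 2, 2, 2, 1, 3, 0⟩), (110849, ⟨1, 0, 2, 3, 1, 0, 1, 3, 0⟩),
  (111178, ⟨1, 0, 3, 0, 3, 1, 1, 3, 0⟩), (111559, ⟨1, 0, 0, 0, 1, 1, 2, 1, 0⟩), (114945, ⟨0, 2, 2, 3, 0, 0, 0, 1, 0⟩),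
  (114949, ⟨1, 0, 0, 3, 1, 1, 0, 1, 0⟩), (114953, ⟨0, 2, 2, 3, 3, 2, 0, 1, 0⟩), (114957, ⟨1, 0, 0, 2, 2, 2, 0, 3, 0⟩),
  (118924, ⟨1, 0, 0, 1, 2, 2, 1, 3, 0⟩), (119041, ⟨2, 2, 1, 2, 0, 0, 1, 3, 0⟩), (119370, ⟨1, 0, 2, 1, 2, 1, 1, 3, 0⟩),
  (119751, ⟨1, 3, 1, 3, 3, 3, 1, 3, 0⟩), (123080, ⟨1, 2, 2, 1, 3, 2, 3, 1, 0⟩), (123137, ⟨1, 2, 2, 3, 0, 0, 3, 1, 0⟩),
  (123526, ⟨1, 1, 0, 0, 2, 2, 1, 2, 0⟩), (123727, ⟨1, 0, 0, 3, 2, 2, 2, 3, 0⟩), (127044, ⟨1, 0, 1, 1, 0, 2, 2, 2, 0⟩),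
  (127233, ⟨1, 2, 2, 3, 0, 0, 1, 1, 0⟩), (127694, ⟨1, 0, 2, 1, 0, 1, 2, 2, 0⟩), (127883, ⟨1, 0, 0, 1, 0, 3, 2, 2, 0⟩),
  (135458, ⟨0, 3, 3, 2, 3, 1, 3, 0, 2⟩), (136610, ⟨1, 1, 0, 2, 1, 3, 1, 0, 3⟩), (137698, ⟨1, 0, 0, 2, 3, 3, 3, 0, 2⟩),
  (138594, ⟨1, 3, 3, 3, 3, 1, 3, 0, 2⟩), (139538, ⟨1, 0, 0, 0, 1, 0, 3, 0, 1⟩), (140754, ⟨1, 3, 0, 0, 2, 3, 1, 0, 2⟩),
  (141650, ⟨1, 0, 0, 2, 1, 0, 3, 0, 1⟩), (142738, ⟨1, 0, 1, 2, 2, 1, 1, 0, 2⟩), (143666, ⟨1, 3, 3, 3, 3, 3, 1, 0, 1⟩),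
  (144754, ⟨1, 0, 0, 0, 2, 3, 3, 0, 3⟩), (145842, ⟨3, 3, 3, 1, 3, 3, 1, 0, 1⟩), (146930, ⟨1, 3, 0, 3, 3, 0, 1, 0, 1⟩),
  (150017, ⟨1, 3, 0, 2, 0, 0, 0, 2, 1⟩), (150041, ⟨1, 0, 0, 2, 1, 0, 0, 2, 1⟩), (150061, ⟨1, 0, 0, 3, 2, 3, 0, 3, 2⟩),
  (150069, ⟨1, 0, 0, 1, 3, 3, 0, 1, 3⟩), (151854, ⟨1, 0, 0, 1, 2, 3, 3, 3, 2⟩), (153524, ⟨1, 0, 0, 2, 3, 3, 1, 1, 3⟩),
  (154305, ⟨2, 1, 2, 2, 3, 2, 1, 1, 3⟩), (154715, ⟨1, 0, 0, 3, 1, 0, 2, 2, 1⟩), (155930, ⟨1, 2, 0, 0, 1, 0, 3, 2, 1⟩),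
  (157676, ⟨1, 0, 0, 0, 2, 3, 1, 3, 2⟩), (158273, ⟨1, 3, 0, 2, 0, 0, 3, 2, 1⟩), (158903, ⟨1, 0, 0, 0, 3, 3, 2, 1, 3⟩),
  (160054, ⟨1, 0, 0, 3, 3, 3, 3, 1, 3⟩), (161624, ⟨1, 3, 0, 1, 3, 3, 2, 3, 2⟩), (162433, ⟨1, 0, 1, 2, 1, 3, 3, 1, 3⟩),
  (163055, ⟨1, 0, 0, 2, 2, 3, 2, 3, 2⟩), (165377, ⟨1, 3, 0, 3, 2, 3, 0, 2, 3⟩), (165405, ⟨1, 0, 0, 1, 1, 0, 0, 3, 1⟩),
  (165413, ⟨1, 1, 0, 3, 3, 3, 0, 2, 3⟩), (165433, ⟨1, 0, 0, 3, 0, 3, 0, 2, 3⟩), (168230, ⟨1, 0, 0, 0, 3, 0, 3, 1, 2⟩),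
  (169601, ⟨1, 3, 0, 2, 2, 3, 1, 2, 3⟩), (170207, ⟨1, 0, 0, 2, 1, 0, 2, 3, 1⟩), (171896, ⟨1, 0, 2, 0, 3, 3, 3, 1, 2⟩),
  (172318, ⟨1, 0, 0, 0, 1, 0, 3, 3, 1⟩), (173761, ⟨1, 2, 0, 0, 2, 3, 1, 1, 2⟩), (174203, ⟨1, 0, 3, 0, 1, 3, 3, 3, 1⟩),
  (176036, ⟨2, 1, 3, 2, 0, 1, 1, 1, 2⟩), (176442, ⟨1, 0, 0, 3, 0, 3, 3, 2, 3⟩), (177729, ⟨1, 2, 0, 1, 2, 3, 2, 1, 2⟩),
  (178343, ⟨1, 0, 0, 0, 1, 3, 2, 1, 2⟩), (180188, ⟨1, 0, 0, 3, 1, 0, 1, 3, 1⟩), (183809, ⟨0, 2, 0, 3, 0, 0, 0, 1, 1⟩),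
  (183829, ⟨1, 0, 0, 3, 1, 0, 0, 1, 1⟩), (183849, ⟨1, 0, 0, 1, 0, 3, 0, 2, 2⟩), (183869, ⟨0, 2, 0, 3, 3, 0, 0, 1, 1⟩),
  (184618, ⟨1, 0, 0, 1, 0, 3, 3, 2, 2⟩), (185495, ⟨1, 2, 0, 2, 0, 3, 1, 3, 3⟩), (187388, ⟨1, 0, 0, 1, 2, 0, 1, 3, 3⟩),
  (187969, ⟨1, 0, 1, 1, 2, 2, 1, 3, 3⟩), (188694, ⟨1, 3, 0, 0, 1, 0, 3, 1, 1⟩), (189695, ⟨1, 0, 0, 1, 1, 3, 2, 3, 3⟩),
  (191336, ⟨1, 0, 0, 1, 0, 3, 1, 2, 2⟩), (192129, ⟨2, 0, 3, 2, 1, 1, 1, 2, 2⟩), (192830, ⟨1, 2, 3, 3, 0, 3, 1, 1, 1⟩),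
  (193643, ⟨1, 0, 0, 1, 0, 3, 2, 2, 2⟩), (195476, ⟨1, 0, 0, 2, 1, 0, 1, 1, 1⟩), (196289, ⟨1, 0, 3, 1, 0, 0, 2, 2, 2⟩),
  (201011, ⟨0, 3, 3, 2, 3, 3, 3, 0, 1⟩), (202227, ⟨1, 0, 0, 1, 2, 3, 2, 0, 3⟩), (203123, ⟨1, 3, 0, 1, 1, 3, 1, 0, 2⟩),
  (204211, ⟨1, 0, 3, 2, 1, 1, 1, 0, 2⟩), (205091, ⟨2, 3, 3, 1, 3, 1, 2, 0, 2⟩), (206179, ⟨1, 1, 0, 0, 1, 3, 3, 0, 3⟩),
  (207267, ⟨1, 0, 2, 2, 2, 0, 1, 0, 1⟩), (208355, ⟨3, 3, 3, 0, 3, 1, 2, 0, 2⟩), (209171, ⟨1, 0, 0, 0, 1, 0, 2, 0, 1⟩),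
  (210323, ⟨2, 0, 3, 3, 3, 0, 1, 0, 3⟩), (211411, ⟨1, 2, 0, 2, 2, 3, 3, 0, 2⟩), (212307, ⟨1, 0, 1, 1, 3, 2, 1, 0, 3⟩),
  (216833, ⟨0, 2, 0, 3, 0, 0, 0, 3, 1⟩), (216861, ⟨0, 2, 0, 3, 1, 0, 0, 3, 1⟩), (216869, ⟨1, 0, 0, 1, 1, 3, 0, 1, 2⟩),
  (216889, ⟨1, 0, 0, 2, 1, 1, 0, 2, 3⟩), (217403, ⟨0, 3, 3, 2, 1, 3, 3, 3, 1⟩), (218852, ⟨1, 0, 0, 2, 3, 0, 1, 1, 2⟩),
  (219230, ⟨1, 2, 0, 1, 0, 3, 1, 1, 2⟩), (221057, ⟨1, 0, 1, 2, 3, 1, 1, 1, 2⟩), (221479, ⟨1, 0, 0, 3, 1, 3, 2, 1, 2⟩),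
  (222812, ⟨1, 2, 0, 0, 1, 3, 3, 2, 3⟩), (223418, ⟨1, 0, 1, 0, 2, 2, 1, 3, 1⟩), (225217, ⟨1, 0, 3, 0, 2, 3, 1, 3, 1⟩),
  (225567, ⟨1, 0, 0, 0, 1, 0, 2, 3, 1⟩), (227000, ⟨1, 0, 0, 2, 0, 3, 1, 2, 3⟩), (227558, ⟨1, 0, 0, 2, 1, 3, 3, 1, 2⟩),
  (229185, ⟨1, 2, 0, 3, 0, 0, 2, 3, 1⟩), (232193, ⟨1, 3, 0, 2, 0, 0, 0, 1, 1⟩), (232213, ⟨1, 0, 0, 2, 1, 0, 0, 1, 1⟩),
  (232233, ⟨1, 0, 0, 3, 0, 3, 0, 2, 2⟩), (232253, ⟨1, 0, 0, 1, 1, 3, 0, 3, 3⟩), (233791, ⟨1, 0, 0, 2, 1, 3, 2, 3, 3⟩),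
  (234710, ⟨1, 0, 0, 0, 3, 2, 3, 1, 1⟩), (236353, ⟨1, 0, 3, 0, 3, 3, 3, 1, 1⟩), (237224, ⟨2, 0, 3, 2, 2, 1, 1, 2, 2⟩),
  (237867, ⟨1, 0, 3, 0, 1, 0, 3, 3, 3⟩), (238718, ⟨1, 0, 0, 0, 1, 3, 3, 3, 3⟩), (240513, ⟨2, 1, 2, 2, 0, 0, 1, 1, 1⟩),
  (241364, ⟨1, 0, 0, 3, 1, 0, 1, 1, 1⟩), (241943, ⟨1, 0, 0, 0, 1, 0, 2, 1, 1⟩), (242858, ⟨1, 0, 0, 3, 0, 3, 3, 2, 2⟩),
  (244673, ⟨1, 1, 0, 2, 3, 3, 3, 2, 2⟩), (245372, ⟨1, 0, 0, 3, 1, 3, 1, 3, 3⟩), (247553, ⟨0, 2, 3, 3, 0, 0, 0, 1, 3⟩),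
  (247577, ⟨0, 2, 3, 3, 3, 0, 0, 1, 3⟩), (247597, ⟨1, 0, 0, 2, 2, 3, 0, 3, 2⟩), (247605, ⟨1, 0, 0, 3, 3, 3, 0, 1, 3⟩),
  (250167, ⟨0, 3, 3, 2, 2, 3, 3, 2, 1⟩), (251841, ⟨3, 2, 3, 3, 0, 0, 2, 1, 3⟩), (252524, ⟨1, 0, 0, 1, 2, 3, 1, 3, 2⟩),
  (253082, ⟨1, 0, 2, 1, 2, 0, 1, 3, 2⟩), (254255, ⟨1, 0, 0, 3, 2, 3, 2, 3, 2⟩), (255809, ⟨1, 3, 0, 0, 1, 3, 3, 1, 3⟩),
  (256664, ⟨1, 0, 0, 2, 1, 0, 1, 2, 1⟩), (257270, ⟨3, 2, 3, 0, 3, 1, 2, 3, 2⟩), (258331, ⟨1, 0, 0, 1, 0, 3, 2, 2, 1⟩),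
  (259969, ⟨2, 2, 3, 3, 0, 0, 1, 1, 3⟩), (260852, ⟨1, 0, 1, 1, 0, 2, 2, 2, 1⟩), (261230, ⟨1, 0, 2, 1, 0, 1, 2, 2, 1⟩)]

def cert (s : M9) : M9 := lookup (codeN (scaleN (mmN s s).a s)) tbl

def chk2 (s : M9) : Bool :=
  if Nat.beq (detN s) 1 then
    if isScN (mmN s s) then
      if isScN s then true
      else redB (cert s) && Nat.beq (detN (cert s)) 1 &&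
        eqM (mmN (cert s) (scaleN (mmN s s).a s)) (mmN Jn (cert s))
    else true
  else true

def slice2 (a b c : ℕ) : Bool :=
  D.all fun d => D.all fun e => D.all fun f => D.all fun g => D.all fun h => D.all fun i =>
    chk2 ⟨a, b, c, d, e, f, g, h, i⟩

def sliceAll2 : Bool := D.all fun a => D.all fun b => D.all fun c => slice2 a b c

theorem t_0_0_0 : slice2 0 0 0 = true := by decide +kernel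
theorem t_0_0_1 : slice2 0 0 1 = true := by decide +kernel
theorem t_0_0_2 : slice2 0 0 2 = true := by decide +kernel
theorem t_0_0_3 : slice2 0 0 3 = true := by decide +kernel
theorem t_0_1_0 : slice2 0 1 0 = true := by decide +kernel
theorem t_0_1_1 : slice2 0 1 1 = true := by decide +kernel
theorem t_0_1_2 : slice2 0 1 2 = true := by decide +kernel
theorem t_0_1_3 : slice2 0 1 3 = true := by decide +kernel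
theorem t_0_2_0 : slice2 0 2 0 = true := by decide +kernel
theorem t_0_2_1 : slice2 0 2 1 = true := by decide +kernel
theorem t_0_2_2 : slice2 0 2 2 = true := by decide +kernel
theorem t_0_2_3 : slice2 0 2 3 = true := by decide +kernel
theorem t_0_3_0 : slice2 0 3 0 = true := by decide +kernel
theorem t_0_3_1 : slice2 0 3 1 = true := by decide +kernel
theorem t_0_3_2 : slice2 0 3 2 = true := by decide +kernel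
theorem t_0_3_3 : slice2 0 3 3 = true := by decide +kernel
theorem t_1_0_0 : slice2 1 0 0 = true := by decide +kernel
theorem t_1_0_1 : slice2 1 0 1 = true := by decide +kernel
theorem t_1_0_2 : slice2 1 0 2 = true := by decide +kernel
theorem t_1_0_3 : slice2 1 0 3 = true := by decide +kernel
theorem t_1_1_0 : slice2 1 1 0 = true := by decide +kernel
theorem t_1_1_1 : slice2 1 1 1 = true := by decide +kernel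
theorem t_1_1_2 : slice2 1 1 2 = true := by decide +kernel
theorem t_1_1_3 : slice2 1 1 3 = true := by decide +kernel
theorem t_1_2_0 : slice2 1 2 0 = true := by decide +kernel
theorem t_1_2_1 : slice2 1 2 1 = true := by decide +kernel
theorem t_1_2_2 : slice2 1 2 2 = true := by decide +kernel
theorem t_1_2_3 : slice2 1 2 3 = true := by decide +kernel
theorem t_1_3_0 : slice2 1 3 0 = true := by decide +kernel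
theorem t_1_3_1 : slice2 1 3 1 = true := by decide +kernel
theorem t_1_3_2 : slice2 1 3 2 = true := by decide +kernel
theorem t_1_3_3 : slice2 1 3 3 = true := by decide +kernel
theorem t_2_0_0 : slice2 2 0 0 = true := by decide +kernel
theorem t_2_0_1 : slice2 2 0 1 = true := by decide +kernel
theorem t_2_0_2 : slice2 2 0 2 = true := by decide +kernel
theorem t_2_0_3 : slice2 2 0 3 = true := by decide +kernel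
theorem t_2_1_0 : slice2 2 1 0 = true := by decide +kernel
theorem t_2_1_1 : slice2 2 1 1 = true := by decide +kernel
theorem t_2_1_2 : slice2 2 1 2 = true := by decide +kernel
theorem t_2_1_3 : slice2 2 1 3 = true := by decide +kernel
theorem t_2_2_0 : slice2 2 2 0 = true := by decide +kernel
theorem t_2_2_1 : slice2 2 2 1 = true := by decide +kernel
theorem t_2_2_2 : slice2 2 2 2 = true := by decide +kernel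
theorem t_2_2_3 : slice2 2 2 3 = true := by decide +kernel
theorem t_2_3_0 : slice2 2 3 0 = true := by decide +kernel
theorem t_2_3_1 : slice2 2 3 1 = true := by decide +kernel
theorem t_2_3_2 : slice2 2 3 2 = true := by decide +kernel
theorem t_2_3_3 : slice2 2 3 3 = true := by decide +kernel
theorem t_3_0_0 : slice2 3 0 0 = true := by decide +kernel
theorem t_3_0_1 : slice2 3 0 1 = true := by decide +kernel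
theorem t_3_0_2 : slice2 3 0 2 = true := by decide +kernel
theorem t_3_0_3 : slice2 3 0 3 = true := by decide +kernel
theorem t_3_1_0 : slice2 3 1 0 = true := by decide +kernel
theorem t_3_1_1 : slice2 3 1 1 = true := by decide +kernel
theorem t_3_1_2 : slice2 3 1 2 = true := by decide +kernel
theorem t_3_1_3 : slice2 3 1 3 = true := by decide +kernel
theorem t_3_2_0 : slice2 3 2 0 = true := by decide +kernel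
theorem t_3_2_1 : slice2 3 2 1 = true := by decide +kernel
theorem t_3_2_2 : slice2 3 2 2 = true := by decide +kernel
theorem t_3_2_3 : slice2 3 2 3 = true := by decide +kernel
theorem t_3_3_0 : slice2 3 3 0 = true := by decide +kernel
theorem t_3_3_1 : slice2 3 3 1 = true := by decide +kernel
theorem t_3_3_2 : slice2 3 3 2 = true := by decide +kernel
theorem t_3_3_3 : slice2 3 3 3 = true := by decide +kernel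

theorem sliceAll2_true : sliceAll2 = true := by
  simp only [sliceAll2, D, List.all_cons, List.all_nil, Bool.and_true, Bool.and_self,
    t_0_0_0, t_0_0_1, t_0_0_2, t_0_0_3, t_0_1_0, t_0_1_1, t_0_1_2, t_0_1_3, t_0_2_0, t_0_2_1, t_0_2_2, t_0_2_3, t_0_3_0, t_0_3_1, t_0_3_2, t_0_3_3, t_1_0_0, t_1_0_1, t_1_0_2, t_1_0_3, t_1_1_0, t_1_1_1, t_1_1_2, t_1_1_3, t_1_2_0, t_1_2_1, t_1_2_2, t_1_2_3, t_1_3_0, t_1_3_1, t_1_3_2, t_1_3_3, t_2_0_0, t_2_0_1, t_2_0_2, t_2_0_3, t_2_1_0, t_2_1_1, t_2_1_2, t_2_1_3, t_2_2_0, t_2_2_1, t_2_2_2, t_2_2_3, t_2_3_0, t_2_3_1, t_2_3_2, t_2_3_3, t_3_0_0, t_3_0_1, t_3_0_2, t_3_0_3, t_3_1_0, t_3_1_1, t_3_1_2, t_3_1_3, t_3_2_0, t_3_2_1, t_3_2_2, t_3_2_3, t_3_3_0, t_3_3_1, t_3_3_2, t_3_3_3]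

theorem chk2_all (s : M9) (hs : red s) : chk2 s = true := by
  obtain ⟨a, b, c, d, e, f, g, h, i⟩ := s
  obtain ⟨ha, hb, hc, hd, he, hf, hg, hh, hi⟩ := hs
  have h1 := sliceAll2_true
  unfold sliceAll2 at h1
  have h2 := List.all_eq_true.1 (List.all_eq_true.1 (List.all_eq_true.1 h1 a (mem_D ha)) b
    (mem_D hb)) c (mem_D hc)
  unfold slice2 at h2
  exact List.all_eq_true.1 (List.all_eq_true.1 (List.all_eq_true.1 (List.all_eq_true.1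
    (List.all_eq_true.1 (List.all_eq_true.1 h2 d (mem_D hd)) e (mem_D he)) f (mem_D hf)) g
    (mem_D hg)) h (mem_D hh)) i (mem_D hi)

end Cfsg.Agent.Lib.Helper2.PSL34
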