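import Mathlib

set_option autoImplicit false

namespace Cfsg.Agent.Lib.Helper2.SO33

structure M9 where
  a : ℕ
  b : ℕ
  c : ℕ
  d : ℕ
  e : ℕ
  f : ℕ
  g : ℕ
  h : ℕ
  i : ℕ
deriving DecidableEq

def d3 (a b c d e f : ℕ) : ℕ :=
  Nat.mod (Nat.add (Nat.add (Nat.mul a b) (Nat.mul c d)) (Nat.mul e f)) 3

def mmN (s t : M9) : M9 :=
  ⟨d3 s.a t.a s.b t.d s.c t.g, d3 s.a t.b s.b t.e s.c t.h, d3 s.a t.c s.b t.f s.c t.i,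
   d3 s.d t.a s.e t.d s.f t.g, d3 s.d t.b s.e t.e s.f t.h, d3 s.d t.c s.e t.f s.f t.i,
   d3 s.g t.a s.h t.d s.i t.g, d3 s.g t.b s.h t.e s.i t.h, d3 s.g t.c s.h t.f s.i t.i⟩

def detN (s : M9) : ℕ :=
  Nat.mod (Nat.add (Nat.add (Nat.mul s.a (Nat.add (Nat.mul s.e s.i) (Nat.mul 2 (Nat.mul s.f s.h))))
    (Nat.mul 2 (Nat.mul s.b (Nat.add (Nat.mul s.d s.i) (Nat.mul 2 (Nat.mul s.f s.g))))))
    (Nat.mul s.c (Nat.add (Nat.mul s.d s.h) (Nat.mul 2 (Nat.mul s.e s.g))))) 3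

def qN (x y z : ℕ) : ℕ := Nat.mod (Nat.add (Nat.mul x x) (Nat.mul y z)) 3

def isoV (s : M9) (x y z : ℕ) : Bool :=
  Nat.beq (qN (d3 s.a x s.b y s.c z) (d3 s.d x s.e y s.f z) (d3 s.g x s.h y s.i z)) (qN x y z)

def D3 : List ℕ := [0, 1, 2]

def isoChk (s : M9) : Bool := D3.all fun x => D3.all fun y => D3.all fun z => isoV s x y z

def eqM (s t : M9) : Bool :=
  Nat.beq s.a t.a && Nat.beq s.b t.b && Nat.beq s.c t.c && Nat.beq s.d t.d && Nat.beq s.e t.e &&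
    Nat.beq s.f t.f && Nat.beq s.g t.g && Nat.beq s.h t.h && Nat.beq s.i t.i

def I9 : M9 := ⟨1, 0, 0, 0, 1, 0, 0, 0, 1⟩

def p2 (s : M9) : M9 := mmN s s

def p3 (s : M9) : M9 := mmN (mmN s s) s

def p6 (s : M9) : M9 := mmN (p3 s) (p3 s)

def L24 : List M9 := [
  ⟨0, 1, 1, 1, 2, 1, 1, 1, 2⟩, ⟨0, 1, 1, 2, 1, 2, 2, 2, 1⟩, ⟨0, 2, 2, 1, 1, 2, 1, 2, 1⟩, ⟨0, 2, 2, 2, 2, 1, 2, 1, 2⟩,
  ⟨1, 0, 0, 0, 1, 0, 0, 0, 1⟩, ⟨1, 0, 0, 0, 2, 0, 0, 0, 2⟩, ⟨1, 0, 1, 1, 1, 2, 0, 0, 1⟩, ⟨1, 0, 1, 2, 2, 1, 0, 0, 2⟩,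
  ⟨1, 0, 2, 1, 2, 1, 0, 0, 2⟩, ⟨1, 0, 2, 2, 1, 2, 0, 0, 1⟩, ⟨1, 1, 0, 0, 1, 0, 1, 2, 1⟩, ⟨1, 1, 0, 0, 2, 0, 2, 1, 2⟩,
  ⟨1, 2, 0, 0, 1, 0, 2, 2, 1⟩, ⟨1, 2, 0, 0, 2, 0, 1, 1, 2⟩, ⟨2, 0, 0, 0, 0, 1, 0, 1, 0⟩, ⟨2, 0, 0, 0, 0, 2, 0, 2, 0⟩,
  ⟨2, 0, 1, 0, 0, 1, 2, 1, 2⟩, ⟨2, 0, 1, 0, 0, 2, 1, 2, 1⟩, ⟨2, 0, 2, 0, 0, 1, 1, 1, 2⟩, ⟨2, 0, 2, 0, 0, 2, 2, 2, 1⟩,
  ⟨2, 1, 0, 1, 1, 2, 0, 2, 0⟩, ⟨2, 1, 0, 2, 2, 1, 0, 1, 0⟩, ⟨2, 2, 0, 1, 2, 1, 0, 1, 0⟩, ⟨2, 2, 0, 2, 1, 2, 0, 2, 0⟩]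

def memL (s : M9) : Bool := L24.any (eqM s)

def chk (s : M9) : Bool :=
  if isoChk s && Nat.beq (detN s) 1 then
    memL s && (if eqM (p6 s) I9 then (eqM (p2 s) I9 || eqM (p3 s) I9) else true)
  else true

def allChk : Bool :=
  D3.all fun a => D3.all fun b => D3.all fun c => D3.all fun d => D3.all fun e => D3.all fun f =>
    D3.all fun g => D3.all fun h => D3.all fun i => chk ⟨a, b, c, d, e, f, g, h, i⟩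

set_option maxRecDepth 1000000 in
theorem allChk_true : allChk = true := by decide +kernel

def red (s : M9) : Prop :=
  s.a < 3 ∧ s.b < 3 ∧ s.c < 3 ∧ s.d < 3 ∧ s.e < 3 ∧ s.f < 3 ∧ s.g < 3 ∧ s.h < 3 ∧ s.i < 3

instance (s : M9) : Decidable (red s) := by
  unfold red
  infer_instance

theorem mem_D3 {x : ℕ} (hx : x < 3) : x ∈ D3 := by
  unfold D3
  interval_cases x <;> simp

theorem chk_all (s : M9) (hs : red s) : chk s = true := by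
  obtain ⟨a, b, c, d, e, f, g, h, i⟩ := s
  obtain ⟨ha, hb, hc, hd, he, hf, hg, hh, hi⟩ := hs
  have h1 := allChk_true
  unfold allChk at h1
  exact List.all_eq_true.1 (List.all_eq_true.1 (List.all_eq_true.1 (List.all_eq_true.1
    (List.all_eq_true.1 (List.all_eq_true.1 (List.all_eq_true.1 (List.all_eq_true.1
    (List.all_eq_true.1 h1 a (mem_D3 ha)) b (mem_D3 hb)) c (mem_D3 hc)) d (mem_D3 hd)) e
    (mem_D3 he)) f (mem_D3 hf)) g (mem_D3 hg)) h (mem_D3 hh)) i (mem_D3 hi)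

set_option maxRecDepth 1000000 in
theorem L24_spec : ∀ s ∈ L24, red s ∧ isoChk s = true ∧ detN s = 1 := by decide +kernel

set_option maxRecDepth 1000000 in
theorem L24_nodup : L24.Nodup := by decide +kernel

theorem L24_length : L24.length = 24 := by decide

end Cfsg.Agent.Lib.Helper2.SO33
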