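import Mathlib

set_option autoImplicit false

namespace Cfsg.Agent.Lib.Helper2.SpEmb

open Matrix

variable {n : ℕ}

def xv (n : ℕ) (i : Fin (n - 1)) (s : Fin (2 * n)) : ZMod 2 := if s.val / 2 = i.val then 1 else 0

def yv (n : ℕ) (i : Fin (n - 1)) (s : Fin (2 * n)) : ZMod 2 :=
  if 2 * i.val + 1 ≤ s.val ∧ s.val ≤ 2 * n - 2 then 1 else 0

def Xm (n : ℕ) : Matrix (Fin (n - 1) ⊕ Fin (n - 1)) (Fin (2 * n)) (ZMod 2) :=
  Matrix.of (Sum.elim (xv n) (yv n))

def Ym (n : ℕ) : Matrix (Fin (n - 1) ⊕ Fin (n - 1)) (Fin (2 * n)) (ZMod 2) :=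
  Matrix.of (Sum.elim (yv n) (xv n))

def Rm (n : ℕ) (σ : Equiv.Perm (Fin (2 * n))) : Matrix (Fin (2 * n)) (Fin (2 * n)) (ZMod 2) :=
  Matrix.of (fun t s => if σ.symm t = s then 1 else 0)

def Pi (n : ℕ) : Matrix (Fin (2 * n)) (Fin (2 * n)) (ZMod 2) :=
  Matrix.of (fun s t => (if s = t then 1 else 0) + 1 + (if s.val = 2 * n - 1 then 1 else 0) +
    (if t.val = 2 * n - 1 then 1 else 0))

def pp (n : ℕ) (s t : Fin (2 * n)) : ZMod 2 :=
  if s.val / 2 < n - 1 ∧ 2 * (s.val / 2) + 1 ≤ t.val ∧ t.val ≤ 2 * n - 2 then 1 else 0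

theorem neg2 : ∀ a : ZMod 2, -a = a := by decide

theorem sum_xv (i : Fin (n - 1)) (f : Fin (2 * n) → ZMod 2) :
    ∑ s, xv n i s * f s = f ⟨2 * i.val, by have := i.isLt; omega⟩ +
      f ⟨2 * i.val + 1, by have := i.isLt; omega⟩ := by
  have e1 : (2 * i.val) / 2 = i.val := by omega
  have e2 : (2 * i.val + 1) / 2 = i.val := by omega
  rw [Fintype.sum_eq_add (⟨2 * i.val, by have := i.isLt; omega⟩ : Fin (2 * n))
    ⟨2 * i.val + 1, by have := i.isLt; omega⟩]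
  · simp [xv, e1, e2]
  · intro h
    simp [Fin.ext_iff] at h
  · intro s ⟨h1, h2⟩
    have h3 : s.val / 2 ≠ i.val := by
      intro h
      rcases Nat.mod_two_eq_zero_or_one s.val with h4 | h4
      · apply h1
        apply Fin.ext
        show s.val = 2 * i.val
        omega
      · apply h2
        apply Fin.ext
        show s.val = 2 * i.val + 1
        omega
    simp [xv, h3]

theorem sum_xv_zero (i : Fin (n - 1)) : ∑ s, xv n i s = 0 := by
  have h := sum_xv i (fun _ => 1)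
  simp only [mul_one] at h
  rw [h]
  decide

theorem sum_yv_zero (i : Fin (n - 1)) : ∑ s, yv n i s = 0 := by
  unfold yv
  rw [Fin.sum_univ_eq_sum_range
    (fun s => if 2 * i.val + 1 ≤ s ∧ s ≤ 2 * n - 2 then (1 : ZMod 2) else 0) (2 * n)]
  rw [Finset.sum_boole]
  have h : (Finset.range (2 * n)).filter (fun s => 2 * i.val + 1 ≤ s ∧ s ≤ 2 * n - 2) =
      Finset.Icc (2 * i.val + 1) (2 * n - 2) := by
    ext s
    simp only [Finset.mem_filter, Finset.mem_range, Finset.mem_Icc]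
    have := i.isLt
    omega
  rw [h, Nat.card_Icc, ZMod.natCast_eq_zero_iff]
  exact ⟨n - 1 - i.val, by have := i.isLt; omega⟩

theorem yv_mul_of_le (i j : Fin (n - 1)) (h : i.val ≤ j.val) (s : Fin (2 * n)) :
    yv n i s * yv n j s = yv n j s := by
  unfold yv
  by_cases h1 : 2 * j.val + 1 ≤ s.val ∧ s.val ≤ 2 * n - 2
  · have h2 : 2 * i.val + 1 ≤ s.val ∧ s.val ≤ 2 * n - 2 := by omega
    rw [if_pos h1, if_pos h2, mul_one]
  · rw [if_neg h1, mul_zero]

theorem sum_yv_yv (i j : Fin (n - 1)) : ∑ s, yv n i s * yv n j s = 0 := by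
  rcases le_total i.val j.val with h | h
  · simp only [yv_mul_of_le i j h]
    exact sum_yv_zero j
  · have h1 : ∀ s, yv n i s * yv n j s = yv n i s := by
      intro s
      rw [mul_comm]
      exact yv_mul_of_le j i h s
    simp only [h1]
    exact sum_yv_zero i

theorem yv_even (i j : Fin (n - 1)) :
    yv n i ⟨2 * j.val, by have := j.isLt; omega⟩ = if i.val < j.val then 1 else 0 := by
  have h : (2 * i.val + 1 ≤ 2 * j.val ∧ 2 * j.val ≤ 2 * n - 2) ↔ i.val < j.val := by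
    have := j.isLt
    omega
  simp only [yv, h]

theorem yv_odd (i j : Fin (n - 1)) :
    yv n i ⟨2 * j.val + 1, by have := j.isLt; omega⟩ = if i.val ≤ j.val then 1 else 0 := by
  have h : (2 * i.val + 1 ≤ 2 * j.val + 1 ∧ 2 * j.val + 1 ≤ 2 * n - 2) ↔ i.val ≤ j.val := by
    have := j.isLt
    omega
  simp only [yv, h]

theorem sum_xv_yv (i j : Fin (n - 1)) :
    ∑ s, xv n j s * yv n i s = if i = j then 1 else 0 := by
  rw [sum_xv j (yv n i), yv_even, yv_odd]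
  rcases lt_trichotomy i.val j.val with h | h | h
  · have h1 : i ≠ j := fun h' => by rw [h'] at h; exact lt_irrefl _ h
    rw [if_pos h, if_pos h.le, if_neg h1]
    decide
  · have h1 : i = j := Fin.ext h
    rw [if_neg (by omega), if_pos h.le, if_pos h1]
    decide
  · have h1 : i ≠ j := fun h' => by rw [h'] at h; exact lt_irrefl _ h
    rw [if_neg (by omega), if_neg (by omega), if_neg h1]
    decide

theorem sum_xv_xv (i j : Fin (n - 1)) : ∑ s, xv n i s * xv n j s = 0 := by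
  rw [sum_xv i (xv n j)]
  have e1 : (2 * i.val) / 2 = i.val := by omega
  have e2 : (2 * i.val + 1) / 2 = i.val := by omega
  simp only [xv, e1, e2]
  split_ifs <;> decide

theorem YXt : Ym n * (Xm n)ᵀ = 1 := by
  ext (i | i) (j | j)
  · simp only [Matrix.mul_apply, Matrix.transpose_apply, Ym, Xm, Matrix.of_apply, Sum.elim_inl,
      Matrix.one_apply, Sum.inl.injEq]
    simp only [mul_comm (yv n i _) (xv n j _)]
    exact sum_xv_yv i j
  · simp only [Matrix.mul_apply, Matrix.transpose_apply, Ym, Xm, Matrix.of_apply, Sum.elim_inl,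
      Sum.elim_inr, Matrix.one_apply, reduceCtorEq, if_false]
    exact sum_yv_yv i j
  · simp only [Matrix.mul_apply, Matrix.transpose_apply, Ym, Xm, Matrix.of_apply, Sum.elim_inl,
      Sum.elim_inr, Matrix.one_apply, reduceCtorEq, if_false]
    exact sum_xv_xv i j
  · simp only [Matrix.mul_apply, Matrix.transpose_apply, Ym, Xm, Matrix.of_apply, Sum.elim_inr,
      Matrix.one_apply, Sum.inr.injEq]
    rw [sum_xv_yv j i]
    simp only [eq_comm]

theorem sum_i (s t : Fin (2 * n)) : ∑ i, xv n i s * yv n i t = pp n s t := by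
  by_cases h : s.val / 2 < n - 1
  · rw [Finset.sum_eq_single (⟨s.val / 2, h⟩ : Fin (n - 1))]
    · simp [xv, yv, pp, h]
    · intro i _ hi
      have h1 : s.val / 2 ≠ i.val := fun h' => hi (Fin.ext h'.symm)
      simp [xv, h1]
    · intro h'
      exact absurd (Finset.mem_univ _) h'
  · rw [Finset.sum_eq_zero]
    · simp [pp, h]
    · intro i _
      have h1 : s.val / 2 ≠ i.val := fun h' => h (h' ▸ i.isLt)
      simp [xv, h1]

theorem pp_add (hn : 2 ≤ n) (s t : Fin (2 * n)) :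
    pp n s t + pp n t s = (if s = t then 1 else 0) + 1 + (if s.val = 2 * n - 1 then 1 else 0) +
      (if t.val = 2 * n - 1 then 1 else 0) := by
  have hs := s.isLt
  have ht := t.isLt
  simp only [pp, Fin.ext_iff]
  split_ifs <;> first | rfl | (exfalso; omega) | decide

theorem XtY (hn : 2 ≤ n) : (Xm n)ᵀ * Ym n = Pi n := by
  ext s t
  simp only [Matrix.mul_apply, Matrix.transpose_apply, Fintype.sum_sum_type, Xm, Ym,
    Matrix.of_apply, Sum.elim_inl, Sum.elim_inr, Pi]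
  rw [sum_i s t]
  simp only [mul_comm (yv n _ s) (xv n _ t)]
  rw [sum_i t s]
  exact pp_add hn s t

theorem JX : J (Fin (n - 1)) (ZMod 2) * Xm n = Ym n := by
  ext (i | i) s
  · simp [Matrix.J, Matrix.mul_apply, Fintype.sum_sum_type, Xm, Ym, Matrix.one_apply, neg2]
  · simp [Matrix.J, Matrix.mul_apply, Fintype.sum_sum_type, Xm, Ym, Matrix.one_apply]

theorem Jt : (J (Fin (n - 1)) (ZMod 2))ᵀ = J (Fin (n - 1)) (ZMod 2) := by
  rw [Matrix.J_transpose]
  ext i j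
  rw [Matrix.neg_apply]
  exact neg2 _

theorem YYt : Ym n * (Ym n)ᵀ = J (Fin (n - 1)) (ZMod 2) := by
  have h : (Ym n)ᵀ = (Xm n)ᵀ * (J (Fin (n - 1)) (ZMod 2))ᵀ := by
    rw [← JX, Matrix.transpose_mul]
  rw [h, ← Matrix.mul_assoc, YXt, Matrix.one_mul, Jt]

theorem key {K : Type*} [Fintype K] (A : Matrix K (Fin (2 * n)) (ZMod 2))
    (B : Matrix (Fin (2 * n)) K (ZMod 2)) (hA : ∀ k, ∑ s, A k s = 0)
    (hB : ∀ l, ∑ t, B t l = 0) : A * Pi n * B = A * B := by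
  ext k l
  simp only [Matrix.mul_apply, Pi, Matrix.of_apply]
  have h1 : ∀ t, ∑ s, A k s * ((if s = t then 1 else 0) + 1 +
      (if s.val = 2 * n - 1 then 1 else 0) + (if t.val = 2 * n - 1 then 1 else 0)) =
      A k t + ∑ s, A k s * (if s.val = 2 * n - 1 then 1 else 0) := by
    intro t
    have h2 : ∀ s, A k s * ((if s = t then 1 else 0) + 1 +
        (if s.val = 2 * n - 1 then 1 else 0) + (if t.val = 2 * n - 1 then 1 else 0)) =
        A k s * (if s = t then 1 else 0) + A k s * (1 + (if t.val = 2 * n - 1 then 1 else 0)) +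
        A k s * (if s.val = 2 * n - 1 then 1 else 0) := by
      intro s
      ring
    simp only [h2, Finset.sum_add_distrib, ← Finset.sum_mul, hA, zero_mul, add_zero]
    simp
  simp only [h1, add_mul, Finset.sum_add_distrib, ← Finset.mul_sum, hB, mul_zero, add_zero]

theorem mul_Rm {K : Type*} [Fintype K] (A : Matrix K (Fin (2 * n)) (ZMod 2))
    (σ : Equiv.Perm (Fin (2 * n))) (k : K) (s : Fin (2 * n)) :
    (A * Rm n σ) k s = A k (σ s) := by
  simp [Matrix.mul_apply, Rm, Equiv.symm_apply_eq]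

theorem Rm_mul {K : Type*} (B : Matrix (Fin (2 * n)) K (ZMod 2))
    (σ : Equiv.Perm (Fin (2 * n))) (t : Fin (2 * n)) (l : K) :
    (Rm n σ * B) t l = B (σ.symm t) l := by
  simp [Matrix.mul_apply, Rm]

theorem Rm_mul_Rm (σ τ : Equiv.Perm (Fin (2 * n))) : Rm n σ * Rm n τ = Rm n (σ * τ) := by
  ext t s
  rw [Rm_mul]
  rfl

theorem Rm_mul_transpose (σ : Equiv.Perm (Fin (2 * n))) : Rm n σ * (Rm n σ)ᵀ = 1 := by
  ext t t'
  rw [Rm_mul]
  simp [Rm, Matrix.one_apply, eq_comm]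

theorem rowsum_Ym (k : Fin (n - 1) ⊕ Fin (n - 1)) : ∑ s, Ym n k s = 0 := by
  rcases k with i | i
  · exact sum_yv_zero i
  · exact sum_xv_zero i

theorem rowsum_Xm (k : Fin (n - 1) ⊕ Fin (n - 1)) : ∑ s, Xm n k s = 0 := by
  rcases k with i | i
  · exact sum_xv_zero i
  · exact sum_yv_zero i

theorem rowsum_mul_Rm {K : Type*} [Fintype K] (A : Matrix K (Fin (2 * n)) (ZMod 2))
    (hA : ∀ k, ∑ s, A k s = 0) (σ : Equiv.Perm (Fin (2 * n))) (k : K) :
    ∑ s, (A * Rm n σ) k s = 0 := by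
  simp only [mul_Rm]
  rw [Equiv.sum_comp σ (A k)]
  exact hA k

theorem colsum_Rm_mul {K : Type*} (B : Matrix (Fin (2 * n)) K (ZMod 2))
    (hB : ∀ l, ∑ t, B t l = 0) (σ : Equiv.Perm (Fin (2 * n))) (l : K) :
    ∑ t, (Rm n σ * B) t l = 0 := by
  simp only [Rm_mul]
  rw [Equiv.sum_comp σ.symm (fun t => B t l)]
  exact hB l

def Mm (n : ℕ) (σ : Equiv.Perm (Fin (2 * n))) :
    Matrix (Fin (n - 1) ⊕ Fin (n - 1)) (Fin (n - 1) ⊕ Fin (n - 1)) (ZMod 2) :=
  Ym n * Rm n σ * (Xm n)ᵀ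

theorem Mm_mul (hn : 2 ≤ n) (σ τ : Equiv.Perm (Fin (2 * n))) :
    Mm n (σ * τ) = Mm n σ * Mm n τ := by
  unfold Mm
  have h : Ym n * Rm n σ * (Xm n)ᵀ * (Ym n * Rm n τ * (Xm n)ᵀ) =
      (Ym n * Rm n σ) * ((Xm n)ᵀ * Ym n) * (Rm n τ * (Xm n)ᵀ) := by
    simp only [Matrix.mul_assoc]
  have hcol : ∀ l, ∑ t, (Rm n τ * (Xm n)ᵀ) t l = 0 :=
    colsum_Rm_mul (Xm n)ᵀ (fun l => rowsum_Xm l) τ
  rw [h, XtY hn, key (Ym n * Rm n σ) (Rm n τ * (Xm n)ᵀ) (rowsum_mul_Rm _ rowsum_Ym σ) hcol,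
    ← Rm_mul_Rm]
  simp only [Matrix.mul_assoc]

theorem Mm_mem (hn : 2 ≤ n) (σ : Equiv.Perm (Fin (2 * n))) :
    Mm n σ ∈ Matrix.symplecticGroup (Fin (n - 1)) (ZMod 2) := by
  rw [SymplecticGroup.mem_iff]
  unfold Mm
  rw [Matrix.transpose_mul, Matrix.transpose_mul, Matrix.transpose_transpose]
  have h : Ym n * Rm n σ * (Xm n)ᵀ * J (Fin (n - 1)) (ZMod 2) *
      (Xm n * ((Rm n σ)ᵀ * (Ym n)ᵀ)) =
      (Ym n * Rm n σ) * ((Xm n)ᵀ * (J (Fin (n - 1)) (ZMod 2) * Xm n)) *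
        ((Rm n σ)ᵀ * (Ym n)ᵀ) := by
    simp only [Matrix.mul_assoc]
  have hcol : ∀ l, ∑ t, ((Rm n σ)ᵀ * (Ym n)ᵀ) t l = 0 := by
    intro l
    have h1 := rowsum_mul_Rm (Ym n) rowsum_Ym σ l
    rw [← Matrix.transpose_mul]
    exact h1
  rw [h, JX, XtY hn, key (Ym n * Rm n σ) ((Rm n σ)ᵀ * (Ym n)ᵀ) (rowsum_mul_Rm _ rowsum_Ym σ) hcol]
  have h2 : Ym n * Rm n σ * ((Rm n σ)ᵀ * (Ym n)ᵀ) =
      Ym n * (Rm n σ * (Rm n σ)ᵀ) * (Ym n)ᵀ := by
    simp only [Matrix.mul_assoc]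
  rw [h2, Rm_mul_transpose, Matrix.mul_one]
  exact YYt

end Cfsg.Agent.Lib.Helper2.SpEmb
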