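import Mathlib
import Cfsg.Agent.Lib.Helper2.SpEmb

set_option autoImplicit false

namespace Cfsg.Agent.Lib.Helper2.SpEmb

open Matrix

variable {n : ℕ}

def emb (n : ℕ) (hn : 2 ≤ n) :
    Equiv.Perm (Fin (2 * n)) →* Matrix.symplecticGroup (Fin (n - 1)) (ZMod 2) :=
  MonoidHom.mk' (fun σ => ⟨Mm n σ, Mm_mem hn σ⟩) (fun σ τ => Subtype.ext (Mm_mul hn σ τ))

theorem Mm_entry (σ : Equiv.Perm (Fin (2 * n))) (i j : Fin (n - 1)) :
    Mm n σ (Sum.inl i) (Sum.inl j) = ∑ s, xv n j s * yv n i (σ s) := by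
  unfold Mm
  rw [Matrix.mul_apply]
  simp only [mul_Rm, Matrix.transpose_apply, Ym, Xm, Matrix.of_apply, Sum.elim_inl]
  apply Finset.sum_congr rfl
  intro s _
  rw [mul_comm]

theorem fne {N : ℕ} (a b : Fin N) (h : a.val ≠ b.val) : a ≠ b := fun h' => h (congrArg Fin.val h')

theorem entry00 (hn : 3 ≤ n) (σ : Equiv.Perm (Fin (2 * n))) (i : Fin (n - 1)) (hi : i.val = 0)
    (h0 : σ (⟨0, by omega⟩ : Fin (2 * n)) = ⟨0, by omega⟩)
    (h1 : σ (⟨1, by omega⟩ : Fin (2 * n)) = ⟨2 * n - 1, by omega⟩) :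
    Mm n σ (Sum.inl i) (Sum.inl i) = 0 := by
  rw [Mm_entry, sum_xv]
  have e0 : (⟨2 * i.val, by have := i.isLt; omega⟩ : Fin (2 * n)) = ⟨0, by omega⟩ :=
    Fin.ext (by show 2 * i.val = 0; omega)
  have e1 : (⟨2 * i.val + 1, by have := i.isLt; omega⟩ : Fin (2 * n)) = ⟨1, by omega⟩ :=
    Fin.ext (by show 2 * i.val + 1 = 1; omega)
  rw [e0, e1, h0, h1]
  have y0 : yv n i (⟨0, by omega⟩ : Fin (2 * n)) = 0 := by
    have h : ¬ (2 * i.val + 1 ≤ 0 ∧ 0 ≤ 2 * n - 2) := by omega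
    simp only [yv]
    exact if_neg h
  have y1 : yv n i (⟨2 * n - 1, by omega⟩ : Fin (2 * n)) = 0 := by
    have h : ¬ (2 * i.val + 1 ≤ 2 * n - 1 ∧ 2 * n - 1 ≤ 2 * n - 2) := by omega
    simp only [yv]
    exact if_neg h
  rw [y0, y1, add_zero]

theorem emb_injective (hn : 3 ≤ n) : Function.Injective (emb n (by omega)) := by
  rw [injective_iff_map_eq_one]
  intro σ hσ
  by_contra hne
  have hnt : Nontrivial (emb n (by omega)).ker := by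
    rw [Subgroup.nontrivial_iff_exists_ne_one]
    exact ⟨σ, MonoidHom.mem_ker.2 hσ, hne⟩
  have hcard : 5 ≤ Nat.card (Fin (2 * n)) := by
    rw [Nat.card_fin]
    omega
  have hle := Equiv.Perm.alternatingGroup_le_of_normal hcard hnt
  have hτ : (Equiv.swap (⟨1, by omega⟩ : Fin (2 * n)) ⟨2 * n - 1, by omega⟩ *
      Equiv.swap (⟨2, by omega⟩ : Fin (2 * n)) ⟨3, by omega⟩) ∈
      alternatingGroup (Fin (2 * n)) := by
    rw [Equiv.Perm.mem_alternatingGroup, Equiv.Perm.sign_mul,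
      Equiv.Perm.sign_swap (fne _ _ (by simp; omega)),
      Equiv.Perm.sign_swap (fne _ _ (by simp))]
    rfl
  have h1 := hle hτ
  rw [MonoidHom.mem_ker] at h1
  have h2 : Mm n (Equiv.swap (⟨1, by omega⟩ : Fin (2 * n)) ⟨2 * n - 1, by omega⟩ *
      Equiv.swap (⟨2, by omega⟩ : Fin (2 * n)) ⟨3, by omega⟩) = 1 := congrArg Subtype.val h1
  have h3 := congrFun (congrFun h2 (Sum.inl (⟨0, by omega⟩ : Fin (n - 1))))
    (Sum.inl (⟨0, by omega⟩ : Fin (n - 1)))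
  have s0 : Equiv.swap (⟨2, by omega⟩ : Fin (2 * n)) ⟨3, by omega⟩ ⟨0, by omega⟩ =
      ⟨0, by omega⟩ :=
    Equiv.swap_apply_of_ne_of_ne (fne _ _ (by simp)) (fne _ _ (by simp))
  have s0' : Equiv.swap (⟨1, by omega⟩ : Fin (2 * n)) ⟨2 * n - 1, by omega⟩ ⟨0, by omega⟩ =
      ⟨0, by omega⟩ :=
    Equiv.swap_apply_of_ne_of_ne (fne _ _ (by simp)) (fne _ _ (by simp; omega))
  have s1 : Equiv.swap (⟨2, by omega⟩ : Fin (2 * n)) ⟨3, by omega⟩ ⟨1, by omega⟩ =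
      ⟨1, by omega⟩ :=
    Equiv.swap_apply_of_ne_of_ne (fne _ _ (by simp)) (fne _ _ (by simp))
  have e0 : (Equiv.swap (⟨1, by omega⟩ : Fin (2 * n)) ⟨2 * n - 1, by omega⟩ *
      Equiv.swap (⟨2, by omega⟩ : Fin (2 * n)) ⟨3, by omega⟩) (⟨0, by omega⟩ : Fin (2 * n)) =
      ⟨0, by omega⟩ := by
    rw [Equiv.Perm.mul_apply, s0, s0']
  have e1 : (Equiv.swap (⟨1, by omega⟩ : Fin (2 * n)) ⟨2 * n - 1, by omega⟩ *
      Equiv.swap (⟨2, by omega⟩ : Fin (2 * n)) ⟨3, by omega⟩) (⟨1, by omega⟩ : Fin (2 * n)) =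
      ⟨2 * n - 1, by omega⟩ := by
    rw [Equiv.Perm.mul_apply, s1, Equiv.swap_apply_left]
  rw [entry00 hn _ _ rfl e0 e1, Matrix.one_apply, if_pos rfl] at h3
  revert h3
  decide

theorem s0826 (n : ℕ) (hn : 3 ≤ n) :
    ∃ f : Equiv.Perm (Fin (2 * n)) →* Matrix.symplecticGroup (Fin (n - 1)) (ZMod 2),
      Function.Injective f :=
  ⟨emb n (by omega), emb_injective hn⟩

end Cfsg.Agent.Lib.Helper2.SpEmb
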