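import Mathlib
import Cfsg.Agent.Lib.Helper2.PSL34e

set_option autoImplicit false

namespace Cfsg.Agent.Lib.Helper2.PSL34

def sqT (x : ℕ) : ℕ := mulT x x

def hcol (x0 x1 x2 y0 y1 y2 : ℕ) : ℕ := dot3 x0 (sqT y0) x1 (sqT y1) x2 (sqT y2)

def uniChk (s : M9) : Bool :=
  Nat.beq (hcol s.a s.d s.g s.a s.d s.g) 1 && Nat.beq (hcol s.a s.d s.g s.b s.e s.h) 0 &&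
  Nat.beq (hcol s.a s.d s.g s.c s.f s.i) 0 && Nat.beq (hcol s.b s.e s.h s.a s.d s.g) 0 &&
  Nat.beq (hcol s.b s.e s.h s.b s.e s.h) 1 && Nat.beq (hcol s.b s.e s.h s.c s.f s.i) 0 &&
  Nat.beq (hcol s.c s.f s.i s.a s.d s.g) 0 && Nat.beq (hcol s.c s.f s.i s.b s.e s.h) 0 &&
  Nat.beq (hcol s.c s.f s.i s.c s.f s.i) 1

def L216 : List M9 := [
  ⟨0, 0, 1, 0, 1, 0, 1, 0, 0⟩, ⟨0, 0, 1, 0, 2, 0, 3, 0, 0⟩, ⟨0, 0, 1, 0, 3, 0, 2, 0, 0⟩,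
  ⟨0, 0, 1, 1, 0, 0, 0, 1, 0⟩, ⟨0, 0, 1, 2, 0, 0, 0, 3, 0⟩, ⟨0, 0, 1, 3, 0, 0, 0, 2, 0⟩,
  ⟨0, 0, 2, 0, 1, 0, 3, 0, 0⟩, ⟨0, 0, 2, 0, 2, 0, 2, 0, 0⟩, ⟨0, 0, 2, 0, 3, 0, 1, 0, 0⟩,
  ⟨0, 0, 2, 1, 0, 0, 0, 3, 0⟩, ⟨0, 0, 2, 2, 0, 0, 0, 2, 0⟩, ⟨0, 0, 2, 3, 0, 0, 0, 1, 0⟩,
  ⟨0, 0, 3, 0, 1, 0, 2, 0, 0⟩, ⟨0, 0, 3, 0, 2, 0, 1, 0, 0⟩, ⟨0, 0, 3, 0, 3, 0, 3, 0, 0⟩,
  ⟨0, 0, 3, 1, 0, 0, 0, 2, 0⟩, ⟨0, 0, 3, 2, 0, 0, 0, 1, 0⟩, ⟨0, 0, 3, 3, 0, 0, 0, 3, 0⟩,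
  ⟨0, 1, 0, 0, 0, 1, 1, 0, 0⟩, ⟨0, 1, 0, 0, 0, 2, 3, 0, 0⟩, ⟨0, 1, 0, 0, 0, 3, 2, 0, 0⟩,
  ⟨0, 1, 0, 1, 0, 0, 0, 0, 1⟩, ⟨0, 1, 0, 2, 0, 0, 0, 0, 3⟩, ⟨0, 1, 0, 3, 0, 0, 0, 0, 2⟩,
  ⟨0, 2, 0, 0, 0, 1, 3, 0, 0⟩, ⟨0, 2, 0, 0, 0, 2, 2, 0, 0⟩, ⟨0, 2, 0, 0, 0, 3, 1, 0, 0⟩,
  ⟨0, 2, 0, 1, 0, 0, 0, 0, 3⟩, ⟨0, 2, 0, 2, 0, 0, 0, 0, 2⟩, ⟨0, 2, 0, 3, 0, 0, 0, 0, 1⟩,
  ⟨0, 3, 0, 0, 0, 1, 2, 0, 0⟩, ⟨0, 3, 0, 0, 0, 2, 1, 0, 0⟩, ⟨0, 3, 0, 0, 0, 3, 3, 0, 0⟩,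
  ⟨0, 3, 0, 1, 0, 0, 0, 0, 2⟩, ⟨0, 3, 0, 2, 0, 0, 0, 0, 1⟩, ⟨0, 3, 0, 3, 0, 0, 0, 0, 3⟩,
  ⟨1, 0, 0, 0, 0, 1, 0, 1, 0⟩, ⟨1, 0, 0, 0, 0, 2, 0, 3, 0⟩, ⟨1, 0, 0, 0, 0, 3, 0, 2, 0⟩,
  ⟨1, 0, 0, 0, 1, 0, 0, 0, 1⟩, ⟨1, 0, 0, 0, 2, 0, 0, 0, 3⟩, ⟨1, 0, 0, 0, 3, 0, 0, 0, 2⟩,
  ⟨1, 1, 1, 1, 2, 3, 1, 3, 2⟩, ⟨1, 1, 1, 1, 3, 2, 1, 2, 3⟩, ⟨1, 1, 1, 2, 1, 3, 3, 1, 2⟩,
  ⟨1, 1, 1, 2, 3, 1, 3, 2, 1⟩, ⟨1, 1, 1, 3, 1, 2, 2, 1, 3⟩, ⟨1, 1, 1, 3, 2, 1, 2, 3, 1⟩,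
  ⟨1, 1, 2, 1, 2, 1, 3, 2, 2⟩, ⟨1, 1, 2, 1, 3, 3, 3, 1, 3⟩, ⟨1, 1, 2, 2, 1, 1, 2, 3, 2⟩,
  ⟨1, 1, 2, 2, 3, 2, 2, 1, 1⟩, ⟨1, 1, 2, 3, 1, 3, 1, 3, 3⟩, ⟨1, 1, 2, 3, 2, 2, 1, 2, 1⟩,
  ⟨1, 1, 3, 1, 2, 2, 2, 1, 2⟩, ⟨1, 1, 3, 1, 3, 1, 2, 3, 3⟩, ⟨1, 1, 3, 2, 1, 2, 1, 2, 2⟩,
  ⟨1, 1, 3, 2, 3, 3, 1, 3, 1⟩, ⟨1, 1, 3, 3, 1, 1, 3, 2, 3⟩, ⟨1, 1, 3, 3, 2, 3, 3, 1, 1⟩,
  ⟨1, 2, 1, 1, 1, 2, 3, 2, 2⟩, ⟨1, 2, 1, 1, 3, 3, 3, 3, 1⟩, ⟨1, 2, 1, 2, 1, 1, 2, 2, 3⟩,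
  ⟨1, 2, 1, 2, 2, 3, 2, 1, 1⟩, ⟨1, 2, 1, 3, 2, 2, 1, 1, 2⟩, ⟨1, 2, 1, 3, 3, 1, 1, 3, 3⟩,
  ⟨1, 2, 2, 1, 1, 3, 2, 1, 2⟩, ⟨1, 2, 2, 1, 3, 1, 2, 2, 1⟩, ⟨1, 2, 2, 2, 1, 2, 1, 1, 3⟩,
  ⟨1, 2, 2, 2, 2, 1, 1, 3, 1⟩, ⟨1, 2, 2, 3, 2, 3, 3, 3, 2⟩, ⟨1, 2, 2, 3, 3, 2, 3, 2, 3⟩,
  ⟨1, 2, 3, 1, 1, 1, 1, 3, 2⟩, ⟨1, 2, 3, 1, 3, 2, 1, 1, 1⟩, ⟨1, 2, 3, 2, 1, 3, 3, 3, 3⟩,
  ⟨1, 2, 3, 2, 2, 2, 3, 2, 1⟩, ⟨1, 2, 3, 3, 2, 1, 2, 2, 2⟩, ⟨1, 2, 3, 3, 3, 3, 2, 1, 3⟩,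
  ⟨1, 3, 1, 1, 1, 3, 2, 3, 3⟩, ⟨1, 3, 1, 1, 2, 2, 2, 2, 1⟩, ⟨1, 3, 1, 2, 2, 1, 1, 2, 2⟩,
  ⟨1, 3, 1, 2, 3, 3, 1, 1, 3⟩, ⟨1, 3, 1, 3, 1, 1, 3, 3, 2⟩, ⟨1, 3, 1, 3, 3, 2, 3, 1, 1⟩,
  ⟨1, 3, 2, 1, 1, 1, 1, 2, 3⟩, ⟨1, 3, 2, 1, 2, 3, 1, 1, 1⟩, ⟨1, 3, 2, 2, 2, 2, 3, 1, 2⟩,
  ⟨1, 3, 2, 2, 3, 1, 3, 3, 3⟩, ⟨1, 3, 2, 3, 1, 2, 2, 2, 2⟩, ⟨1, 3, 2, 3, 3, 3, 2, 3, 1⟩,
  ⟨1, 3, 3, 1, 1, 2, 3, 1, 3⟩, ⟨1, 3, 3, 1, 2, 1, 3, 3, 1⟩, ⟨1, 3, 3, 2, 2, 3, 2, 3, 2⟩,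
  ⟨1, 3, 3, 2, 3, 2, 2, 2, 3⟩, ⟨1, 3, 3, 3, 1, 3, 1, 1, 2⟩, ⟨1, 3, 3, 3, 3, 1, 1, 2, 1⟩,
  ⟨2, 0, 0, 0, 0, 1, 0, 3, 0⟩, ⟨2, 0, 0, 0, 0, 2, 0, 2, 0⟩, ⟨2, 0, 0, 0, 0, 3, 0, 1, 0⟩,
  ⟨2, 0, 0, 0, 1, 0, 0, 0, 3⟩, ⟨2, 0, 0, 0, 2, 0, 0, 0, 2⟩, ⟨2, 0, 0, 0, 3, 0, 0, 0, 1⟩,
  ⟨2, 1, 1, 1, 1, 2, 2, 3, 2⟩, ⟨2, 1, 1, 1, 2, 1, 2, 2, 3⟩, ⟨2, 1, 1, 2, 2, 3, 1, 2, 1⟩,
  ⟨2, 1, 1, 2, 3, 2, 1, 1, 2⟩, ⟨2, 1, 1, 3, 1, 3, 3, 3, 1⟩, ⟨2, 1, 1, 3, 3, 1, 3, 1, 3⟩,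
  ⟨2, 1, 2, 1, 1, 3, 1, 2, 2⟩, ⟨2, 1, 2, 1, 2, 2, 1, 1, 3⟩, ⟨2, 1, 2, 2, 2, 1, 3, 1, 1⟩,
  ⟨2, 1, 2, 2, 3, 3, 3, 3, 2⟩, ⟨2, 1, 2, 3, 1, 1, 2, 2, 1⟩, ⟨2, 1, 2, 3, 3, 2, 2, 3, 3⟩,
  ⟨2, 1, 3, 1, 1, 1, 3, 1, 2⟩, ⟨2, 1, 3, 1, 2, 3, 3, 3, 3⟩, ⟨2, 1, 3, 2, 2, 2, 2, 3, 1⟩,
  ⟨2, 1, 3, 2, 3, 1, 2, 2, 2⟩, ⟨2, 1, 3, 3, 1, 2, 1, 1, 1⟩, ⟨2, 1, 3, 3, 3, 3, 1, 2, 3⟩,
  ⟨2, 2, 1, 1, 2, 2, 1, 3, 1⟩, ⟨2, 2, 1, 1, 3, 1, 1, 2, 2⟩, ⟨2, 2, 1, 2, 1, 2, 3, 1, 1⟩,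
  ⟨2, 2, 1, 2, 3, 3, 3, 2, 3⟩, ⟨2, 2, 1, 3, 1, 1, 2, 1, 2⟩, ⟨2, 2, 1, 3, 2, 3, 2, 3, 3⟩,
  ⟨2, 2, 2, 1, 2, 3, 3, 2, 1⟩, ⟨2, 2, 2, 1, 3, 2, 3, 1, 2⟩, ⟨2, 2, 2, 2, 1, 3, 2, 3, 1⟩,
  ⟨2, 2, 2, 2, 3, 1, 2, 1, 3⟩, ⟨2, 2, 2, 3, 1, 2, 1, 3, 2⟩, ⟨2, 2, 2, 3, 2, 1, 1, 2, 3⟩,
  ⟨2, 2, 3, 1, 2, 1, 2, 1, 1⟩, ⟨2, 2, 3, 1, 3, 3, 2, 3, 2⟩, ⟨2, 2, 3, 2, 1, 1, 1, 2, 1⟩,
  ⟨2, 2, 3, 2, 3, 2, 1, 3, 3⟩, ⟨2, 2, 3, 3, 1, 3, 3, 2, 2⟩, ⟨2, 2, 3, 3, 2, 2, 3, 1, 3⟩,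
  ⟨2, 3, 1, 1, 1, 1, 3, 2, 1⟩, ⟨2, 3, 1, 1, 3, 2, 3, 3, 3⟩, ⟨2, 3, 1, 2, 1, 3, 2, 2, 2⟩,
  ⟨2, 3, 1, 2, 2, 2, 2, 1, 3⟩, ⟨2, 3, 1, 3, 2, 1, 1, 1, 1⟩, ⟨2, 3, 1, 3, 3, 3, 1, 3, 2⟩,
  ⟨2, 3, 2, 1, 1, 2, 2, 1, 1⟩, ⟨2, 3, 2, 1, 3, 3, 2, 2, 3⟩, ⟨2, 3, 2, 2, 1, 1, 1, 1, 2⟩,
  ⟨2, 3, 2, 2, 2, 3, 1, 3, 3⟩, ⟨2, 3, 2, 3, 2, 2, 3, 3, 1⟩, ⟨2, 3, 2, 3, 3, 1, 3, 2, 2⟩,
  ⟨2, 3, 3, 1, 1, 3, 1, 3, 1⟩, ⟨2, 3, 3, 1, 3, 1, 1, 1, 3⟩, ⟨2, 3, 3, 2, 1, 2, 3, 3, 2⟩,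
  ⟨2, 3, 3, 2, 2, 1, 3, 2, 3⟩, ⟨2, 3, 3, 3, 2, 3, 2, 2, 1⟩, ⟨2, 3, 3, 3, 3, 2, 2, 1, 2⟩,
  ⟨3, 0, 0, 0, 0, 1, 0, 2, 0⟩, ⟨3, 0, 0, 0, 0, 2, 0, 1, 0⟩, ⟨3, 0, 0, 0, 0, 3, 0, 3, 0⟩,
  ⟨3, 0, 0, 0, 1, 0, 0, 0, 2⟩, ⟨3, 0, 0, 0, 2, 0, 0, 0, 1⟩, ⟨3, 0, 0, 0, 3, 0, 0, 0, 3⟩,
  ⟨3, 1, 1, 1, 1, 3, 3, 2, 3⟩, ⟨3, 1, 1, 1, 3, 1, 3, 3, 2⟩, ⟨3, 1, 1, 2, 1, 2, 2, 2, 1⟩,
  ⟨3, 1, 1, 2, 2, 1, 2, 1, 2⟩, ⟨3, 1, 1, 3, 2, 3, 1, 1, 3⟩, ⟨3, 1, 1, 3, 3, 2, 1, 3, 1⟩,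
  ⟨3, 1, 2, 1, 1, 1, 2, 1, 3⟩, ⟨3, 1, 2, 1, 3, 2, 2, 2, 2⟩, ⟨3, 1, 2, 2, 1, 3, 1, 1, 1⟩,
  ⟨3, 1, 2, 2, 2, 2, 1, 3, 2⟩, ⟨3, 1, 2, 3, 2, 1, 3, 3, 3⟩, ⟨3, 1, 2, 3, 3, 3, 3, 2, 1⟩,
  ⟨3, 1, 3, 1, 1, 2, 1, 3, 3⟩, ⟨3, 1, 3, 1, 3, 3, 1, 1, 2⟩, ⟨3, 1, 3, 2, 1, 1, 3, 3, 1⟩,
  ⟨3, 1, 3, 2, 2, 3, 3, 2, 2⟩, ⟨3, 1, 3, 3, 2, 2, 2, 2, 3⟩, ⟨3, 1, 3, 3, 3, 1, 2, 1, 1⟩,
  ⟨3, 2, 1, 1, 1, 1, 2, 3, 1⟩, ⟨3, 2, 1, 1, 2, 3, 2, 2, 2⟩, ⟨3, 2, 1, 2, 2, 2, 1, 2, 3⟩,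
  ⟨3, 2, 1, 2, 3, 1, 1, 1, 1⟩, ⟨3, 2, 1, 3, 1, 2, 3, 3, 3⟩, ⟨3, 2, 1, 3, 3, 3, 3, 1, 2⟩,
  ⟨3, 2, 2, 1, 1, 2, 1, 2, 1⟩, ⟨3, 2, 2, 1, 2, 1, 1, 1, 2⟩, ⟨3, 2, 2, 2, 2, 3, 3, 1, 3⟩,
  ⟨3, 2, 2, 2, 3, 2, 3, 3, 1⟩, ⟨3, 2, 2, 3, 1, 3, 2, 2, 3⟩, ⟨3, 2, 2, 3, 3, 1, 2, 3, 2⟩,
  ⟨3, 2, 3, 1, 1, 3, 3, 1, 1⟩, ⟨3, 2, 3, 1, 2, 2, 3, 3, 2⟩, ⟨3, 2, 3, 2, 2, 1, 2, 3, 3⟩,
  ⟨3, 2, 3, 2, 3, 3, 2, 2, 1⟩, ⟨3, 2, 3, 3, 1, 1, 1, 1, 3⟩, ⟨3, 2, 3, 3, 3, 2, 1, 2, 2⟩,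
  ⟨3, 3, 1, 1, 2, 1, 1, 3, 3⟩, ⟨3, 3, 1, 1, 3, 3, 1, 2, 1⟩, ⟨3, 3, 1, 2, 1, 1, 3, 1, 3⟩,
  ⟨3, 3, 1, 2, 3, 2, 3, 2, 2⟩, ⟨3, 3, 1, 3, 1, 3, 2, 1, 1⟩, ⟨3, 3, 1, 3, 2, 2, 2, 3, 2⟩,
  ⟨3, 3, 2, 1, 2, 2, 3, 2, 3⟩, ⟨3, 3, 2, 1, 3, 1, 3, 1, 1⟩, ⟨3, 3, 2, 2, 1, 2, 2, 3, 3⟩,
  ⟨3, 3, 2, 2, 3, 3, 2, 1, 2⟩, ⟨3, 3, 2, 3, 1, 1, 1, 3, 1⟩, ⟨3, 3, 2, 3, 2, 3, 1, 2, 2⟩,
  ⟨3, 3, 3, 1, 2, 3, 2, 1, 3⟩, ⟨3, 3, 3, 1, 3, 2, 2, 3, 1⟩, ⟨3, 3, 3, 2, 1, 3, 1, 2, 3⟩,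
  ⟨3, 3, 3, 2, 3, 1, 1, 3, 2⟩, ⟨3, 3, 3, 3, 1, 2, 3, 2, 1⟩, ⟨3, 3, 3, 3, 2, 1, 3, 1, 2⟩]

def memL216 (s : M9) : Bool := L216.any (eqM s)

def chk3 (s : M9) : Bool :=
  if Nat.beq (detN s) 1 && uniChk s then memL216 s else true

def slice3 (a b c : ℕ) : Bool :=
  D.all fun d => D.all fun e => D.all fun f => D.all fun g => D.all fun h => D.all fun i =>
    chk3 ⟨a, b, c, d, e, f, g, h, i⟩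

def sliceAll3 : Bool := D.all fun a => D.all fun b => D.all fun c => slice3 a b c

set_option maxRecDepth 1000000

theorem u_0_0_0 : slice3 0 0 0 = true := by decide +kernel
theorem u_0_0_1 : slice3 0 0 1 = true := by decide +kernel
theorem u_0_0_2 : slice3 0 0 2 = true := by decide +kernel
theorem u_0_0_3 : slice3 0 0 3 = true := by decide +kernel
theorem u_0_1_0 : slice3 0 1 0 = true := by decide +kernel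
theorem u_0_1_1 : slice3 0 1 1 = true := by decide +kernel
theorem u_0_1_2 : slice3 0 1 2 = true := by decide +kernel
theorem u_0_1_3 : slice3 0 1 3 = true := by decide +kernel
theorem u_0_2_0 : slice3 0 2 0 = true := by decide +kernel
theorem u_0_2_1 : slice3 0 2 1 = true := by decide +kernel
theorem u_0_2_2 : slice3 0 2 2 = true := by decide +kernel
theorem u_0_2_3 : slice3 0 2 3 = true := by decide +kernel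
theorem u_0_3_0 : slice3 0 3 0 = true := by decide +kernel
theorem u_0_3_1 : slice3 0 3 1 = true := by decide +kernel
theorem u_0_3_2 : slice3 0 3 2 = true := by decide +kernel
theorem u_0_3_3 : slice3 0 3 3 = true := by decide +kernel
theorem u_1_0_0 : slice3 1 0 0 = true := by decide +kernel
theorem u_1_0_1 : slice3 1 0 1 = true := by decide +kernel
theorem u_1_0_2 : slice3 1 0 2 = true := by decide +kernel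
theorem u_1_0_3 : slice3 1 0 3 = true := by decide +kernel
theorem u_1_1_0 : slice3 1 1 0 = true := by decide +kernel
theorem u_1_1_1 : slice3 1 1 1 = true := by decide +kernel
theorem u_1_1_2 : slice3 1 1 2 = true := by decide +kernel
theorem u_1_1_3 : slice3 1 1 3 = true := by decide +kernel
theorem u_1_2_0 : slice3 1 2 0 = true := by decide +kernel
theorem u_1_2_1 : slice3 1 2 1 = true := by decide +kernel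
theorem u_1_2_2 : slice3 1 2 2 = true := by decide +kernel
theorem u_1_2_3 : slice3 1 2 3 = true := by decide +kernel
theorem u_1_3_0 : slice3 1 3 0 = true := by decide +kernel
theorem u_1_3_1 : slice3 1 3 1 = true := by decide +kernel
theorem u_1_3_2 : slice3 1 3 2 = true := by decide +kernel
theorem u_1_3_3 : slice3 1 3 3 = true := by decide +kernel
theorem u_2_0_0 : slice3 2 0 0 = true := by decide +kernel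
theorem u_2_0_1 : slice3 2 0 1 = true := by decide +kernel
theorem u_2_0_2 : slice3 2 0 2 = true := by decide +kernel
theorem u_2_0_3 : slice3 2 0 3 = true := by decide +kernel
theorem u_2_1_0 : slice3 2 1 0 = true := by decide +kernel
theorem u_2_1_1 : slice3 2 1 1 = true := by decide +kernel
theorem u_2_1_2 : slice3 2 1 2 = true := by decide +kernel
theorem u_2_1_3 : slice3 2 1 3 = true := by decide +kernel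
theorem u_2_2_0 : slice3 2 2 0 = true := by decide +kernel
theorem u_2_2_1 : slice3 2 2 1 = true := by decide +kernel
theorem u_2_2_2 : slice3 2 2 2 = true := by decide +kernel
theorem u_2_2_3 : slice3 2 2 3 = true := by decide +kernel
theorem u_2_3_0 : slice3 2 3 0 = true := by decide +kernel
theorem u_2_3_1 : slice3 2 3 1 = true := by decide +kernel
theorem u_2_3_2 : slice3 2 3 2 = true := by decide +kernel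
theorem u_2_3_3 : slice3 2 3 3 = true := by decide +kernel
theorem u_3_0_0 : slice3 3 0 0 = true := by decide +kernel
theorem u_3_0_1 : slice3 3 0 1 = true := by decide +kernel
theorem u_3_0_2 : slice3 3 0 2 = true := by decide +kernel
theorem u_3_0_3 : slice3 3 0 3 = true := by decide +kernel
theorem u_3_1_0 : slice3 3 1 0 = true := by decide +kernel
theorem u_3_1_1 : slice3 3 1 1 = true := by decide +kernel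
theorem u_3_1_2 : slice3 3 1 2 = true := by decide +kernel
theorem u_3_1_3 : slice3 3 1 3 = true := by decide +kernel
theorem u_3_2_0 : slice3 3 2 0 = true := by decide +kernel
theorem u_3_2_1 : slice3 3 2 1 = true := by decide +kernel
theorem u_3_2_2 : slice3 3 2 2 = true := by decide +kernel
theorem u_3_2_3 : slice3 3 2 3 = true := by decide +kernel
theorem u_3_3_0 : slice3 3 3 0 = true := by decide +kernel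
theorem u_3_3_1 : slice3 3 3 1 = true := by decide +kernel
theorem u_3_3_2 : slice3 3 3 2 = true := by decide +kernel
theorem u_3_3_3 : slice3 3 3 3 = true := by decide +kernel

theorem sliceAll3_true : sliceAll3 = true := by
  simp only [sliceAll3, D, List.all_cons, List.all_nil, Bool.and_true, Bool.and_self,
    u_0_0_0, u_0_0_1, u_0_0_2, u_0_0_3, u_0_1_0, u_0_1_1, u_0_1_2, u_0_1_3, u_0_2_0, u_0_2_1, u_0_2_2, u_0_2_3, u_0_3_0, u_0_3_1, u_0_3_2, u_0_3_3, u_1_0_0, u_1_0_1, u_1_0_2, u_1_0_3, u_1_1_0, u_1_1_1, u_1_1_2, u_1_1_3, u_1_2_0, u_1_2_1, u_1_2_2, u_1_2_3, u_1_3_0, u_1_3_1, u_1_3_2, u_1_3_3, u_2_0_0, u_2_0_1, u_2_0_2, u_2_0_3, u_2_1_0, u_2_1_1, u_2_1_2, u_2_1_3, u_2_2_0, u_2_2_1, u_2_2_2, u_2_2_3, u_2_3_0,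 u_2_3_1, u_2_3_2, u_2_3_3, u_3_0_0, u_3_0_1, u_3_0_2, u_3_0_3, u_3_1_0, u_3_1_1, u_3_1_2, u_3_1_3, u_3_2_0, u_3_2_1, u_3_2_2, u_3_2_3, u_3_3_0, u_3_3_1, u_3_3_2, u_3_3_3]

theorem chk3_all (s : M9) (hs : red s) : chk3 s = true := by
  obtain ⟨a, b, c, d, e, f, g, h, i⟩ := s
  obtain ⟨ha, hb, hc, hd, he, hf, hg, hh, hi⟩ := hs
  have h1 := sliceAll3_true
  unfold sliceAll3 at h1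
  have h2 := List.all_eq_true.1 (List.all_eq_true.1 (List.all_eq_true.1 h1 a (mem_D ha)) b
    (mem_D hb)) c (mem_D hc)
  unfold slice3 at h2
  exact List.all_eq_true.1 (List.all_eq_true.1 (List.all_eq_true.1 (List.all_eq_true.1
    (List.all_eq_true.1 (List.all_eq_true.1 h2 d (mem_D hd)) e (mem_D he)) f (mem_D hf)) g
    (mem_D hg)) h (mem_D hh)) i (mem_D hi)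

theorem L216_spec : L216.all (fun s => redB s && Nat.beq (detN s) 1 && uniChk s) = true := by
  decide +kernel

theorem L216_codes_nodup : (L216.map codeN).Nodup := by decide +kernel

theorem L216_length : L216.length = 216 := by decide +kernel

theorem cen_spec : L216.all (fun s =>
    !(L216.all fun t => eqM (mmN s t) (mmN t s)) || isScN s) = true := by decide +kernel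

theorem cube_spec : L216.all (fun s => !(isScN (p3 s)) ||
    L216.all (fun t => !(isScN (p3 t)) || isScN (p3 (mmN s t)))) = true := by decide +kernel

theorem count_Z : (L216.filter isScN).length = 3 := by decide +kernel

theorem count_N : (L216.filter (fun s => isScN (p3 s))).length = 27 := by decide +kernel

def sA : M9 := ⟨1, 1, 1, 1, 2, 3, 1, 3, 2⟩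

def sB : M9 := ⟨1, 1, 2, 1, 2, 1, 3, 2, 2⟩

def sA2 : M9 := mmN sA sA

def sB2 : M9 := mmN sB sB

theorem sA_mem : memL216 sA = true := by decide +kernel

theorem sB_mem : memL216 sB = true := by decide +kernel

theorem rel1 : isScN (p3 (mmN sA2 sA2)) = true := by decide +kernel

theorem rel2 : isScN (p3 sA2) = false := by decide +kernel

theorem rel3 : isScN (p3 (mmN sB2 sA2)) = true := by decide +kernel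

theorem rel4 : isScN (p3 (mmN sB2 sB2)) = true := by decide +kernel

theorem rel5 : isScN (p3 (mmN (mmN (mmN sA sB) sA) (mmN sB2 sB))) = true := by decide +kernel

theorem rel6 : isScN (p3 sB) = false := by decide +kernel

theorem rel7 : isScN (p3 (mmN sB sA)) = false := by decide +kernel

theorem rel8 : isScN (p3 (mmN sB sA2)) = false := by decide +kernel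

theorem rel9 : isScN (p3 (mmN sB (mmN sA2 sA))) = false := by decide +kernel

end Cfsg.Agent.Lib.Helper2.PSL34
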